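import Mathlib.RingTheory.IntegralClosure.IsIntegralClosure.Basic
import Mathlib.RingTheory.Ideal.Span
import Mathlib.Algebra.Polynomial.Lifts

/-!
# A function non-vanishing on the fibre of an integral ring map
-/

universe u

open Polynomial

namespace Groth.L20.Pinch

variable {R C A : Type u} [CommRing R] [CommRing C] [CommRing A]

/-- For `R → C` integral and a prime `p` of `R`, every `x` of `C` has a companion `e` vanishing on
the part of the fibre over `p` where `x` does not vanish, and nowhere else. -/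
theorem exists_indicator (ψ : R →+* C) (hψ : ψ.IsIntegral) (p : Ideal R) (hp : p.IsPrime) (x : C) :
    ∃ e : C, ∀ q : Ideal C, q.IsPrime → q.comap ψ = p → (e ∈ q ↔ x ∉ q) := by
  classical
  obtain ⟨P, hP, hPx⟩ := hψ x
  have hne : ∃ m, P.coeff m ∉ p := ⟨P.natDegree, by
    rw [hP.coeff_natDegree]; exact fun h => hp.ne_top ((Ideal.eq_top_iff_one p).mpr h)⟩
  let m := Nat.find hne
  have hm : P.coeff m ∉ p := Nat.find_spec hne
  refine ⟨∑ k ∈ Finset.Icc m P.natDegree, ψ (P.coeff k) * x ^ (k - m), fun q hq hqp => ?_⟩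
  have hmem : ∀ r, r ∈ p ↔ ψ r ∈ q := fun r => by rw [← hqp]; rfl
  have hmn : m ≤ P.natDegree := by
    by_contra hlt
    exact hm (by rw [Polynomial.coeff_eq_zero_of_natDegree_lt (by omega)]; exact zero_mem _)
  constructor
  · intro he hx
    rw [← Finset.add_sum_Ioc_eq_sum_Icc hmn, Nat.sub_self, pow_zero, mul_one] at he
    have : ∑ k ∈ Finset.Ioc m P.natDegree, ψ (P.coeff k) * x ^ (k - m) ∈ q := by
      refine Submodule.sum_mem q fun k hk => Ideal.mul_mem_left _ _ ?_
      exact Ideal.pow_mem_of_mem _ hx _ (by have := (Finset.mem_Ioc.mp hk).1; omega)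
    exact hm ((hmem _).mpr ((Ideal.add_mem_iff_left _ this).mp he))
  · intro hx
    have h0 : x ^ m * ∑ k ∈ Finset.Icc m P.natDegree, ψ (P.coeff k) * x ^ (k - m) ∈ q := by
      rw [Finset.mul_sum]
      have he : ∑ k ∈ Finset.Icc m P.natDegree, x ^ m * (ψ (P.coeff k) * x ^ (k - m)) =
          ∑ k ∈ Finset.Icc m P.natDegree, ψ (P.coeff k) * x ^ k :=
        Finset.sum_congr rfl fun k hk => by
          rw [mul_left_comm, ← pow_add, Nat.add_sub_cancel' (Finset.mem_Icc.mp hk).1]
      rw [he]
      have hall : ∑ k ∈ Finset.range (P.natDegree + 1), ψ (P.coeff k) * x ^ k = 0 := by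
        rw [← Polynomial.eval₂_eq_sum_range]; exact hPx
      have hsplit : ∑ k ∈ Finset.range m, ψ (P.coeff k) * x ^ k +
          ∑ k ∈ Finset.Icc m P.natDegree, ψ (P.coeff k) * x ^ k = 0 := by
        rw [← hall, ← Finset.sum_range_add_sum_Ico _ (show m ≤ P.natDegree + 1 by omega)]
        rfl
      have hlow : ∑ k ∈ Finset.range m, ψ (P.coeff k) * x ^ k ∈ q :=
        Submodule.sum_mem q fun k hk => Ideal.mul_mem_right _ _
          ((hmem _).mp (not_not.mp (Nat.find_min hne (Finset.mem_range.mp hk))))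
      rw [eq_neg_of_add_eq_zero_right hsplit]
      exact neg_mem hlow
    exact (hq.mem_or_mem h0).resolve_left fun h => hx (hq.mem_of_pow_mem m h)

/-- An element of a finitely generated ideal which vanishes nowhere on the fibre of an integral
ring map, when the generators have no common zero there. -/
theorem exists_mem_span_forall_notMem (ψ : R →+* C) (hψ : ψ.IsIntegral) (p : Ideal R)
    (hp : p.IsPrime) (φ : A →+* C) (s : Finset A)
    (hs : ∀ f ∈ s, ∀ c : C, ∃ N : ℕ, φ f ^ N * c ∈ Set.range φ) :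
    ∃ a ∈ Ideal.span (s : Set A), ∀ q : Ideal C, q.IsPrime → q.comap ψ = p →
      (∃ f ∈ s, φ f ∉ q) → φ a ∉ q := by
  classical
  induction s using Finset.induction_on with
  | empty => exact ⟨0, zero_mem _, fun q _ _ ⟨f, hf, _⟩ => absurd hf (Finset.notMem_empty f)⟩
  | insert f s hfs ih =>
    obtain ⟨a, ha, haq⟩ := ih fun g hg => hs g (Finset.mem_insert_of_mem hg)
    obtain ⟨e, he⟩ := exists_indicator ψ hψ p hp (φ a)
    obtain ⟨N, c, hc⟩ := hs f (Finset.mem_insert_self f s) e
    have hsub : Ideal.span (s : Set A) ≤ Ideal.span ((insert f s : Finset A) : Set A) :=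
      Ideal.span_mono (by simp)
    refine ⟨a + f * c, add_mem (hsub ha) (Ideal.mul_mem_right _ _ (Ideal.subset_span (by simp))),
      fun q hq hqp hex h => ?_⟩
    rw [map_add, map_mul, hc] at h
    by_cases hA : φ a ∈ q
    · have h2 : φ f * (φ f ^ N * e) ∈ q := (Ideal.add_mem_iff_right _ hA).mp h
      obtain ⟨g, hg, hgq⟩ := hex
      rcases Finset.mem_insert.mp hg with rfl | hg'
      · exact ((he q hq hqp).mp (((hq.mem_or_mem h2).resolve_left hgq |> hq.mem_or_mem).resolve_left
          fun hh => hgq (hq.mem_of_pow_mem N hh))) hA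
      · exact haq q hq hqp ⟨g, hg', hgq⟩ hA
    · exact hA ((Ideal.add_mem_iff_left _
        (Ideal.mul_mem_left _ _ (Ideal.mul_mem_left _ _ ((he q hq hqp).mpr hA)))).mp h)

end Groth.L20.Pinch
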