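import Groth.Agent.L20.Pinch.Props
import Groth.Agent.L20.Pinch.Semilocal
import Groth.Agent.L20.ThickAffine
import Mathlib.AlgebraicGeometry.Morphisms.Integral

/-!
# Cases in which pairs of affine opens exist
-/

set_option linter.style.haveILetI false
set_option linter.unusedSectionVars false
set_option backward.isDefEq.respectTransparency.types false

universe u

open CategoryTheory Limits AlgebraicGeometry Opposite

namespace Groth.L20.Pinch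

variable {X Y Z : Scheme.{u}} {i : Z ⟶ X} {j : Z ⟶ Y} [IsClosedImmersion i]

/-- If a fibre of an integral morphism lies in an affine open of `X`, it lies in a pair. -/
theorem exists_pair_of_fibre [IsIntegralHom j] {U : X.Opens} (hU : IsAffineOpen U) (y : Y)
    (hy : j ⁻¹' {y} ⊆ i ⁻¹' (U : Set X)) : ∃ k : Pair i j, y ∈ k.V ∧ k.U ≤ U := by
  classical
  -- an affine neighbourhood of `y` whose preimage is inside `U`
  have hclosed : IsClosed (j '' (i ⁻¹' (U : Set X))ᶜ) :=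
    j.isClosedMap _ (U.isOpen.preimage i.continuous).isClosed_compl
  obtain ⟨V, hV, hyV, hVle⟩ := exists_isAffineOpen_mem_and_subset (X := Y) (x := y)
    (U := ⟨_, hclosed.isOpen_compl⟩) (fun ⟨z, hz, hzy⟩ => hz (hy hzy))
  have hOU : j ⁻¹ᵁ V ≤ i ⁻¹ᵁ U := fun z hz => by
    by_contra hzU
    exact hVle hz ⟨z, hzU, rfl⟩
  have hO : IsAffineOpen (j ⁻¹ᵁ V) := hV.preimage j
  let φ := (i.appLE U (j ⁻¹ᵁ V) hOU).hom
  let ψ := (j.app V).hom
  have hψ : ψ.IsIntegral := IsIntegralHom.isIntegral_app j V hV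
  let p := hV.primeIdealOf ⟨y, hyV⟩
  -- an open of `U` cutting out the preimage of `V`
  obtain ⟨O', hO', hO'eq⟩ := i.isClosedEmbedding.isInducing.isOpen_iff.mp (j ⁻¹ᵁ V).isOpen
  have hcov : ∀ z : (j ⁻¹ᵁ V), ∃ f : Γ(X, U), i z.1 ∈ X.basicOpen f ∧
      i ⁻¹ᵁ X.basicOpen f ≤ j ⁻¹ᵁ V := by
    rintro ⟨z, hz⟩
    have hz' : z ∈ i ⁻¹' O' := by rw [hO'eq]; exact hz
    obtain ⟨f, hf, hzf⟩ := hU.exists_basicOpen_le (V := ⟨O', hO'⟩) ⟨i z, hz'⟩ (hOU hz)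
    refine ⟨f, hzf, fun w hw => ?_⟩
    have : w ∈ i ⁻¹' O' := hf hw
    rw [hO'eq] at this
    exact this
  choose f hf hfle using hcov
  obtain ⟨t, ht⟩ := hO.isCompact.elim_finite_subcover (fun z => ((i ⁻¹ᵁ X.basicOpen (f z)) : Set Z))
    (fun z => (i ⁻¹ᵁ X.basicOpen (f z)).isOpen) fun z hz => Set.mem_iUnion.mpr ⟨⟨z, hz⟩, hf ⟨z, hz⟩⟩
  have hpre : ∀ g : Γ(X, U), i ⁻¹ᵁ X.basicOpen g ≤ j ⁻¹ᵁ V →
      Z.basicOpen (φ g) = i ⁻¹ᵁ X.basicOpen g := fun g hg => by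
    rw [Scheme.basicOpen_appLE, inf_eq_right.mpr hg]
  have hs : ∀ g ∈ t.image f, ∀ c : Γ(Z, j ⁻¹ᵁ V), ∃ N : ℕ, φ g ^ N * c ∈ Set.range φ := by
    intro g hg c
    obtain ⟨z, -, rfl⟩ := Finset.mem_image.mp hg
    haveI := hU.isLocalization_basicOpen (f z)
    have hle : i ⁻¹ᵁ X.basicOpen (f z) ≤ j ⁻¹ᵁ V := hfle z
    obtain ⟨s, hs⟩ := i.app_surjective (X.basicOpen (f z)) (hU.basicOpen _)
      (Z.presheaf.map (homOfLE hle).op c)
    obtain ⟨n, a, ha⟩ := IsLocalization.Away.surj (f z) s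
    have hsq : ∀ r : Γ(X, U), i.app (X.basicOpen (f z)) (algebraMap Γ(X, U) _ r) =
        Z.presheaf.map (homOfLE hle).op (φ r) := fun r => by
      simp only [φ, RingHom.algebraMap_toAlgebra, Scheme.Hom.app_eq_appLE]
      rw [← CommRingCat.comp_apply, ← CommRingCat.comp_apply, Scheme.Hom.map_appLE,
        Scheme.Hom.appLE_map]
    have e : Z.presheaf.map (homOfLE hle).op (φ (f z) ^ n * c) =
        Z.presheaf.map (homOfLE hle).op (φ a) := by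
      rw [← hsq, ← ha, map_mul, map_mul, map_pow, map_pow, hsq, hs, mul_comm]
    letI : Algebra Γ(Z, j ⁻¹ᵁ V) Γ(Z, i ⁻¹ᵁ X.basicOpen (f z)) :=
      (Z.presheaf.map (homOfLE hle).op).hom.toAlgebra
    haveI : IsLocalization.Away (φ (f z)) Γ(Z, i ⁻¹ᵁ X.basicOpen (f z)) :=
      hO.isLocalization_of_eq_basicOpen _ _ (hpre _ hle).symm
    obtain ⟨m, hm⟩ := IsLocalization.Away.exists_of_eq (φ (f z)) e
    exact ⟨m + n, f z ^ m * a, by rw [map_mul, map_pow, ← hm, pow_add, mul_assoc]⟩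
  obtain ⟨a, ha, haq⟩ := exists_mem_span_forall_notMem ψ hψ p.asIdeal p.2 φ (t.image f) hs
  -- the basic open of `a`
  have haV : i ⁻¹ᵁ X.basicOpen a ≤ j ⁻¹ᵁ V := by
    intro w hw
    by_contra hwV
    have hwU : i w ∈ U := X.basicOpen_le a hw
    have key : ∀ g ∈ Ideal.span ((t.image f : Finset Γ(X, U)) : Set Γ(X, U)),
        g ∈ (hU.primeIdealOf ⟨i w, hwU⟩).asIdeal := fun g hg => by
      refine Ideal.span_le.mpr ?_ hg
      intro g' hg'
      obtain ⟨z, -, rfl⟩ := Finset.mem_image.mp hg'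
      by_contra hn
      have : i w ∈ X.basicOpen (f z) := by
        have h1 : hU.primeIdealOf ⟨i w, hwU⟩ ∈ PrimeSpectrum.basicOpen (f z) := hn
        rw [← hU.fromSpec_preimage_basicOpen] at h1
        change hU.fromSpec (hU.primeIdealOf ⟨i w, hwU⟩) ∈ X.basicOpen (f z) at h1
        rwa [hU.fromSpec_primeIdealOf] at h1
      exact hwV (hfle z this)
    have h2 : hU.primeIdealOf ⟨i w, hwU⟩ ∈ hU.fromSpec ⁻¹ᵁ X.basicOpen a := by
      show hU.fromSpec (hU.primeIdealOf ⟨i w, hwU⟩) ∈ X.basicOpen a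
      rw [hU.fromSpec_primeIdealOf]; exact hw
    rw [hU.fromSpec_preimage_basicOpen] at h2
    exact h2 (key a ha)
  have hyW : ∀ z, j z = y → i z ∈ X.basicOpen a := by
    intro z hz
    have hzV : z ∈ j ⁻¹ᵁ V := by show j z ∈ V; rw [hz]; exact hyV
    have hmem : ∀ g, (φ g ∉ (hO.primeIdealOf ⟨z, hzV⟩).asIdeal) ↔
        z ∈ Z.basicOpen (φ g) := fun g => by
      rw [show z ∈ Z.basicOpen (φ g) ↔
          hO.primeIdealOf ⟨z, hzV⟩ ∈ hO.fromSpec ⁻¹ᵁ Z.basicOpen (φ g) by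
        show _ ↔ hO.fromSpec (hO.primeIdealOf ⟨z, hzV⟩) ∈ Z.basicOpen (φ g)
        rw [hO.fromSpec_primeIdealOf]]
      rw [hO.fromSpec_preimage_basicOpen]
      rfl
    have hp : (hO.primeIdealOf ⟨z, hzV⟩).asIdeal.comap ψ = p.asIdeal := by
      have : Spec.map (j.app V) (hO.primeIdealOf ⟨z, hzV⟩) = p := by
        apply hV.fromSpec.isOpenEmbedding.injective
        rw [hV.fromSpec_primeIdealOf, ← Scheme.Hom.comp_apply, Scheme.Hom.app_eq_appLE,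
          IsAffineOpen.SpecMap_appLE_fromSpec j hV hO, Scheme.Hom.comp_apply,
          hO.fromSpec_primeIdealOf]
        exact hz
      exact congrArg PrimeSpectrum.asIdeal this
    obtain ⟨z', hz't, hzz'⟩ := Set.mem_iUnion₂.mp (ht hzV)
    have hz1 := haq _ (hO.primeIdealOf ⟨z, hzV⟩).2 hp ⟨f z', Finset.mem_image_of_mem f hz't, by
      rw [hmem, hpre _ (hfle z')]; exact hzz'⟩
    rw [hmem, hpre _ haV] at hz1
    exact hz1
  -- shrink `V`
  have hclosed2 : IsClosed (j '' (i ⁻¹' (X.basicOpen a : Set X))ᶜ) :=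
    j.isClosedMap _ ((X.basicOpen a).isOpen.preimage i.continuous).isClosed_compl
  obtain ⟨g, hg, hyg⟩ := hV.exists_basicOpen_le (V := ⟨_, hclosed2.isOpen_compl⟩)
    ⟨y, fun ⟨z, hz, hzy⟩ => hz (hyW z hzy)⟩ hyV
  have hgW : j ⁻¹ᵁ Y.basicOpen g ≤ i ⁻¹ᵁ X.basicOpen a := fun z hz => by
    by_contra h
    exact hg hz ⟨z, h, rfl⟩
  obtain ⟨h, hh⟩ := i.app_surjective (X.basicOpen a) (hU.basicOpen _)
    (Z.presheaf.map (homOfLE haV).op (ψ g))
  refine ⟨⟨X.basicOpen h, Y.basicOpen g, (hU.basicOpen a).basicOpen h, hV.basicOpen g, ?_⟩, hyg,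
    (X.basicOpen_le h).trans (X.basicOpen_le a)⟩
  rw [Scheme.preimage_basicOpen, hh, Scheme.basicOpen_res]
  show i ⁻¹ᵁ X.basicOpen a ⊓ Z.basicOpen (j.app V g) = _
  rw [← Scheme.preimage_basicOpen, inf_eq_right.mpr hgW]

theorem std_of_isIntegralHom [IsIntegralHom j]
    (haff : ∀ y : Y, ∃ U : X.Opens, IsAffineOpen U ∧ j ⁻¹' {y} ⊆ i ⁻¹' (U : Set X)) : Std i j :=
  fun y => by
    obtain ⟨U, hU, hy⟩ := haff y
    obtain ⟨k, hk, -⟩ := exists_pair_of_fibre hU y hy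
    exact ⟨k, hk⟩

theorem exists_affine_of_isClosedImmersion [IsClosedImmersion j] (y : Y) :
    ∃ U : X.Opens, IsAffineOpen U ∧ j ⁻¹' {y} ⊆ i ⁻¹' (U : Set X) := by
  by_cases hy : ∃ z, j z = y
  · obtain ⟨z, rfl⟩ := hy
    obtain ⟨U, hU, hzU, -⟩ := exists_isAffineOpen_mem_and_subset (X := X) (x := i z) (U := ⊤)
      (TopologicalSpace.Opens.mem_top _)
    exact ⟨U, hU, fun z' hz' => by rw [j.isClosedEmbedding.injective hz']; exact hzU⟩
  · exact ⟨⊥, isAffineOpen_bot X, fun z hz => absurd ⟨z, hz⟩ hy⟩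

theorem std_of_thickening (hi : Function.Surjective i) [IsAffineHom j] : Std i j := fun y => by
  obtain ⟨V, hV, hyV, -⟩ := exists_isAffineOpen_mem_and_subset (X := Y) (x := y) (U := ⊤)
    (TopologicalSpace.Opens.mem_top _)
  let U : X.Opens := ⟨i '' (j ⁻¹ᵁ V : Set Z), by
    have : i '' (j ⁻¹ᵁ V : Set Z) = (i '' (j ⁻¹ᵁ V : Set Z)ᶜ)ᶜ := by
      rw [Set.image_compl_eq ⟨i.isClosedEmbedding.injective, hi⟩, compl_compl]
    rw [this]
    exact (i.isClosedMap _ (j ⁻¹ᵁ V).isOpen.isClosed_compl).isOpen_compl⟩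
  have hpre : i ⁻¹ᵁ U = j ⁻¹ᵁ V := TopologicalSpace.Opens.ext
    (Set.preimage_image_eq _ i.isClosedEmbedding.injective)
  refine ⟨⟨U, V, ?_, hV, hpre⟩, hyV⟩
  haveI : IsClosedImmersion (i ∣_ U) :=
    IsZariskiLocalAtTarget.restrict (P := @IsClosedImmersion) inferInstance U
  haveI : IsAffine (i ⁻¹ᵁ U).toScheme := by rw [hpre]; exact hV.preimage j
  refine Groth.L20.ThickAffine.isAffine_of_surjective (i ∣_ U) fun x => ?_
  obtain ⟨z, hz⟩ := hi x.1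
  exact ⟨⟨z, show i z ∈ U by rw [hz]; exact x.2⟩, Subtype.ext (by
    rw [morphismRestrict_base_coe]; exact hz)⟩

theorem std_of_over {S : Scheme.{u}} (f : X ⟶ S) (t : Y ⟶ S) [IsAffineHom t]
    (hsq : i ≫ f = j ≫ t)
    (hstd : ∀ s : S, ∃ U : S.Opens, IsAffineOpen U ∧ s ∈ U ∧ ∃ V : X.Opens, IsAffineOpen V ∧
      V ≤ f ⁻¹ᵁ U ∧ ∀ z : Z, (j ≫ t) z ∈ U → i z ∈ V) : Std i j := fun y => by
  obtain ⟨U, hU, hyU, V, hV, hVU, hZ⟩ := hstd (t y)
  refine ⟨⟨V, t ⁻¹ᵁ U, hV, hU.preimage t, ?_⟩, hyU⟩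
  refine TopologicalSpace.Opens.ext (Set.ext fun z => ⟨fun hz => ?_, fun hz => hZ z hz⟩)
  have : (i ≫ f) z ∈ U := hVU hz
  rw [hsq] at this
  exact this

end Groth.L20.Pinch
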