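import Groth.Agent.L20.Pinch.Ring
import Mathlib.CategoryTheory.Limits.Shapes.Pullback.IsPullback.Defs

/-!
# The spectrum of a fibre product of rings is a pushout in schemes
-/

set_option linter.style.haveILetI false
set_option backward.isDefEq.respectTransparency.types false

universe u

open CategoryTheory Limits AlgebraicGeometry

namespace Groth.L20.Pinch

open Groth.L09.Patch (sp jaw)

variable {T T1 T2 T0 : Type u} [CommRing T] [CommRing T1] [CommRing T2] [CommRing T0]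
variable {φ1 : T →+* T1} {φ2 : T →+* T2} {ψ1 : T1 →+* T0} {ψ2 : T2 →+* T0}

theorem IsFib.hom_ext (h : IsFib φ1 φ2 ψ1 ψ2) {Q U : Scheme.{u}}
    (u : U ⟶ Spec (CommRingCat.of T)) [IsOpenImmersion u] (f f' : U ⟶ Q)
    (h1 : pullback.fst u (sp φ1) ≫ f = pullback.fst u (sp φ1) ≫ f')
    (h2 : pullback.fst u (sp φ2) ≫ f = pullback.fst u (sp φ2) ≫ f') : f = f' := by
  refine h.isPB.toIsJoint.hom_ext u f f' (fun {Z} v w hvw => ?_) (fun {Z} v w hvw => ?_)
  · rw [← pullback.lift_fst v w hvw, Category.assoc, h1, Category.assoc]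
  · rw [← pullback.lift_fst v w hvw, Category.assoc, h2, Category.assoc]

theorem IsFib.hom_ext_spec (h : IsFib φ1 φ2 ψ1 ψ2) {Q : Scheme.{u}}
    (f f' : Spec (CommRingCat.of T) ⟶ Q) (h1 : sp φ1 ≫ f = sp φ1 ≫ f')
    (h2 : sp φ2 ≫ f = sp φ2 ≫ f') : f = f' := by
  refine h.hom_ext (𝟙 _) f f' ?_ ?_
  · have e : pullback.fst (𝟙 _) (sp φ1) = pullback.snd (𝟙 _) (sp φ1) ≫ sp φ1 := by
      rw [← pullback.condition, Category.comp_id]
    rw [e, Category.assoc, h1, Category.assoc]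
  · have e : pullback.fst (𝟙 _) (sp φ2) = pullback.snd (𝟙 _) (sp φ2) ≫ sp φ2 := by
      rw [← pullback.condition, Category.comp_id]
    rw [e, Category.assoc, h2, Category.assoc]

theorem IsFib.exists_desc_hom (h : IsFib φ1 φ2 ψ1 ψ2) {Q : Scheme.{u}}
    (h1 : Spec (CommRingCat.of T1) ⟶ Q) (h2 : Spec (CommRingCat.of T2) ⟶ Q)
    (hc : sp ψ1 ≫ h1 = sp ψ2 ≫ h2) :
    ∃ H : Spec (CommRingCat.of T) ⟶ Q, sp φ1 ≫ H = h1 ∧ sp φ2 ≫ H = h2 := by
  refine h.isPB.toIsJoint.exists_of_local h1 h2 fun p => ?_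
  obtain ⟨G, hG1, hG2⟩ := h.exists_desc (fun s => h1 s) (fun q => h2 q) fun a => by
    have := congrArg (fun f : Spec (CommRingCat.of T0) ⟶ Q => f a) hc
    exact this
  obtain ⟨W, hW, hpW, -⟩ := exists_isAffineOpen_mem_and_subset (X := Q) (x := G p) (U := ⊤)
    (TopologicalSpace.Opens.mem_top _)
  have hopen : IsOpen (G ⁻¹' (W : Set Q)) := by
    refine h.isOpen_of_preimages _ ?_ ?_
    · convert! W.isOpen.preimage h1.continuous using 1
      ext s
      simp only [Set.mem_preimage, hG1]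
      rfl
    · convert! W.isOpen.preimage h2.continuous using 1
      ext s
      simp only [Set.mem_preimage, hG2]
      rfl
  obtain ⟨_, ⟨α, rfl⟩, hpα, hα⟩ :=
    PrimeSpectrum.isTopologicalBasis_basic_opens.exists_subset_of_mem_open
      (show p ∈ G ⁻¹' (W : Set Q) from hpW) hopen
  refine ⟨α, hpα, h.isPB.exists_local h1 h2 hc hW α (fun z hz => ?_) (fun z hz => ?_)⟩
  · have : G (PrimeSpectrum.comap φ1 z) ∈ (W : Set Q) := hα hz
    rwa [hG1] at this
  · have : G (PrimeSpectrum.comap φ2 z) ∈ (W : Set Q) := hα hz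
    rwa [hG2] at this

theorem IsFib.isPushout (h : IsFib φ1 φ2 ψ1 ψ2) :
    IsPushout (sp ψ2) (sp ψ1) (sp φ2) (sp φ1) := by
  refine ⟨⟨?_⟩, ⟨PushoutCocone.IsColimit.mk _ (fun c => ?_) (fun c => ?_) (fun c => ?_)
    (fun c m hm1 hm2 => ?_)⟩⟩
  · rw [Groth.L09.Patch.sp_comp, Groth.L09.Patch.sp_comp, h.comm]
  · exact (h.exists_desc_hom c.inr c.inl c.condition.symm).choose
  · exact (h.exists_desc_hom c.inr c.inl c.condition.symm).choose_spec.2
  · exact (h.exists_desc_hom c.inr c.inl c.condition.symm).choose_spec.1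
  · refine h.hom_ext_spec _ _ ?_ ?_
    · rw [(h.exists_desc_hom c.inr c.inl c.condition.symm).choose_spec.1]; exact hm2
    · rw [(h.exists_desc_hom c.inr c.inl c.condition.symm).choose_spec.2]; exact hm1

end Groth.L20.Pinch
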