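import Groth.Agent.L20.Pinch.Exists
import Mathlib.AlgebraicGeometry.Morphisms.Finite
import Mathlib.AlgebraicGeometry.Morphisms.Integral
import Mathlib.AlgebraicGeometry.Pullbacks

/-!
# Properties of pushouts along a closed immersion
-/

set_option linter.style.haveILetI false
set_option linter.unusedSectionVars false
set_option backward.isDefEq.respectTransparency.types false

universe u

open CategoryTheory Limits AlgebraicGeometry Opposite

namespace Groth.L20.Pinch

open Groth.L09.Patch (sp sp_comp)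

section Ring

variable {T T1 T2 T0 : Type u} [CommRing T] [CommRing T1] [CommRing T2] [CommRing T0]
variable {φ1 : T →+* T1} {φ2 : T →+* T2} {ψ1 : T1 →+* T0} {ψ2 : T2 →+* T0}

theorem IsFib.isPushout_ring (h : IsFib φ1 φ2 ψ1 ψ2) :
    IsPushout (CommRingCat.ofHom φ2) (CommRingCat.ofHom φ1) (CommRingCat.ofHom ψ2)
      (CommRingCat.ofHom ψ1) := by
  have key : ∀ c : PushoutCocone (CommRingCat.ofHom φ2) (CommRingCat.ofHom φ1),
      ∀ y, ψ2 y = 0 → c.inl.hom y = 0 := fun c y hy => by
    obtain ⟨t, ht, rfl⟩ := h.ker_le hy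
    have := congrArg (fun f => CommRingCat.Hom.hom f t) c.condition
    refine this.trans ?_
    show c.inr.hom (φ1 t) = 0
    rw [ht, map_zero]
  refine ⟨⟨?_⟩, ⟨PushoutCocone.IsColimit.mk _
    (fun c => CommRingCat.ofHom (ψ2.liftOfRightInverse _ (Function.rightInverse_surjInv h.surj) ⟨c.inl.hom, fun y hy => key c y hy⟩))
    (fun c => ?_) (fun c => ?_) (fun c m hm _ => ?_)⟩⟩
  · ext t; exact (h.comm_apply t).symm
  · ext y; exact RingHom.liftOfRightInverse_comp_apply ψ2 _ (Function.rightInverse_surjInv h.surj) ⟨c.inl.hom, key c⟩ y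
  · ext x
    obtain ⟨t, rfl⟩ := h.surj1 x
    show ψ2.liftOfRightInverse _ (Function.rightInverse_surjInv h.surj) ⟨c.inl.hom, key c⟩ (ψ1 (φ1 t)) = c.inr.hom (φ1 t)
    rw [h.comm_apply, RingHom.liftOfRightInverse_comp_apply]
    exact congrArg (fun f => CommRingCat.Hom.hom f t) c.condition
  · ext z
    obtain ⟨y, rfl⟩ := h.surj z
    show m.hom (ψ2 y) = ψ2.liftOfRightInverse _ (Function.rightInverse_surjInv h.surj) ⟨c.inl.hom, key c⟩ (ψ2 y)
    rw [RingHom.liftOfRightInverse_comp_apply]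
    exact congrArg (fun f => CommRingCat.Hom.hom f y) hm

theorem IsFib.isPullback (h : IsFib φ1 φ2 ψ1 ψ2) :
    IsPullback (sp ψ2) (sp ψ1) (sp φ2) (sp φ1) :=
  isPullback_SpecMap_of_isPushout _ _ _ _ h.isPushout_ring

end Ring

variable {X Y Z P : Scheme.{u}} {i : Z ⟶ X} {j : Z ⟶ Y} [IsClosedImmersion i] {a : X ⟶ P}
  {b : Y ⟶ P}

theorem IsPinch.hom_ext (h : IsPinch i j a b) {Q : Scheme.{u}} (f f' : P ⟶ Q)
    (ha : a ≫ f = a ≫ f') (hb : b ≫ f = b ≫ f') : f = f' := by
  choose k u hu hp hX hY _ _ using h.chart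
  let 𝒰 : P.OpenCover :=
    { I₀ := P
      X := fun p => (k p).spec
      f := u
      mem₀ := (Scheme.ofArrows_mem_precoverage_iff _).mpr ⟨fun p => ⟨p, hp p⟩, hu⟩ }
  refine Scheme.Cover.hom_ext 𝒰 f f' fun p => (k p).isFib.hom_ext_spec _ _ ?_ ?_
  · change (k p).inY ≫ u p ≫ f = (k p).inY ≫ u p ≫ f'
    rw [← Category.assoc, ← hY, Category.assoc, hb, ← Category.assoc, hY, Category.assoc]
  · change (k p).inX ≫ u p ≫ f = (k p).inX ≫ u p ≫ f'
    rw [← Category.assoc, ← hX, Category.assoc, ha, ← Category.assoc, hX, Category.assoc]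

theorem IsPinch.exists_desc (h : IsPinch i j a b) {Q : Scheme.{u}} (f : X ⟶ Q) (g : Y ⟶ Q)
    (w : i ≫ f = j ≫ g) : ∃ H : P ⟶ Q, a ≫ H = f ∧ b ≫ H = g := by
  choose k u hu hp hX hY hXr hYr using h.chart
  haveI := hu
  have hloc : ∀ p, ∃ H : (k p).spec ⟶ Q, (k p).inY ≫ H = (k p).hV.fromSpec ≫ g ∧
      (k p).inX ≫ H = (k p).hU.fromSpec ≫ f := fun p => by
    refine (k p).isFib.exists_desc_hom _ _ ?_
    show Spec.map (j.appLE (k p).V (i ⁻¹ᵁ (k p).U) (k p).eq.le) ≫ (k p).hV.fromSpec ≫ g =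
      Spec.map (i.app (k p).U) ≫ (k p).hU.fromSpec ≫ f
    rw [← Category.assoc, ← (k p).spec_j, ← Category.assoc, ← (k p).spec_i, Category.assoc,
      Category.assoc, w]
  choose H hHY hHX using hloc
  let 𝒰 : P.OpenCover :=
    { I₀ := P
      X := fun p => (k p).spec
      f := u
      mem₀ := (Scheme.ofArrows_mem_precoverage_iff _).mpr ⟨fun p => ⟨p, hp p⟩, hu⟩ }
  have hglue : ∀ p q, pullback.fst (u p) (u q) ≫ H p = pullback.snd (u p) (u q) ≫ H q := by
    intro p q
    let o := pullback.fst (u p) (u q)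
    let n := pullback.snd (u p) (u q)
    have hno : o ≫ u p = n ≫ u q := pullback.condition
    refine (k p).isFib.hom_ext o (o ≫ 𝟙 _ ≫ H p) (n ≫ H q) ?_ ?_ |> fun e => by
      simpa only [Category.id_comp] using e
    · rw [Category.id_comp, ← Category.assoc, pullback.condition, Category.assoc, hHY]
      let s := pullback.snd o (k p).inY ≫ (k p).hV.fromSpec
      have hs : s ≫ b = pullback.fst o (k p).inY ≫ n ≫ u q := by
        rw [Category.assoc, hY, ← Category.assoc, ← pullback.condition, Category.assoc, hno]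
      have hr : Set.range s ⊆ Set.range (k q).hV.fromSpec := by
        rw [(k q).hV.range_fromSpec, ← hYr q]
        rintro _ ⟨w, rfl⟩
        exact ⟨(pullback.fst o (k p).inY ≫ n) w, by
          rw [← Scheme.Hom.comp_apply, ← Scheme.Hom.comp_apply, hs, Category.assoc]⟩
      have hn : pullback.fst o (k p).inY ≫ n = IsOpenImmersion.lift _ s hr ≫ (k q).inY := by
        rw [← cancel_mono (u q), Category.assoc, Category.assoc, ← hY, IsOpenImmersion.lift_fac_assoc,
          hs]
      rw [reassoc_of% hn, hHY, IsOpenImmersion.lift_fac_assoc, Category.assoc]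
    · rw [Category.id_comp, ← Category.assoc, pullback.condition, Category.assoc, hHX]
      let s := pullback.snd o (k p).inX ≫ (k p).hU.fromSpec
      have hs : s ≫ a = pullback.fst o (k p).inX ≫ n ≫ u q := by
        rw [Category.assoc, hX, ← Category.assoc, ← pullback.condition, Category.assoc, hno]
      have hr : Set.range s ⊆ Set.range (k q).hU.fromSpec := by
        rw [(k q).hU.range_fromSpec, ← hXr q]
        rintro _ ⟨w, rfl⟩
        exact ⟨(pullback.fst o (k p).inX ≫ n) w, by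
          rw [← Scheme.Hom.comp_apply, ← Scheme.Hom.comp_apply, hs, Category.assoc]⟩
      have hn : pullback.fst o (k p).inX ≫ n = IsOpenImmersion.lift _ s hr ≫ (k q).inX := by
        rw [← cancel_mono (u q), Category.assoc, Category.assoc, ← hX, IsOpenImmersion.lift_fac_assoc,
          hs]
      rw [reassoc_of% hn, hHX, IsOpenImmersion.lift_fac_assoc, Category.assoc]
  refine ⟨𝒰.glueMorphisms H hglue, ?_, ?_⟩
  · let 𝒱 : X.OpenCover :=
      { I₀ := X
        X := fun x => Spec Γ(X, (k (a x)).U)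
        f := fun x => (k (a x)).hU.fromSpec
        mem₀ := (Scheme.ofArrows_mem_precoverage_iff _).mpr ⟨fun x => ⟨x, by
          show x ∈ Set.range (k (a x)).hU.fromSpec
          rw [(k (a x)).hU.range_fromSpec, ← hXr]; exact hp (a x)⟩, fun x => inferInstance⟩ }
    refine Scheme.Cover.hom_ext 𝒱 _ _ fun x => ?_
    show (k (a x)).hU.fromSpec ≫ a ≫ _ = (k (a x)).hU.fromSpec ≫ f
    rw [← Category.assoc, hX, Category.assoc, ← hHX]
    exact congrArg _ (𝒰.ι_glueMorphisms H hglue (a x))
  · let 𝒱 : Y.OpenCover :=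
      { I₀ := Y
        X := fun x => Spec Γ(Y, (k (b x)).V)
        f := fun x => (k (b x)).hV.fromSpec
        mem₀ := (Scheme.ofArrows_mem_precoverage_iff _).mpr ⟨fun x => ⟨x, by
          show x ∈ Set.range (k (b x)).hV.fromSpec
          rw [(k (b x)).hV.range_fromSpec, ← hYr]; exact hp (b x)⟩, fun x => inferInstance⟩ }
    refine Scheme.Cover.hom_ext 𝒱 _ _ fun x => ?_
    show (k (b x)).hV.fromSpec ≫ b ≫ _ = (k (b x)).hV.fromSpec ≫ g
    rw [← Category.assoc, hY, Category.assoc, ← hHY]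
    exact congrArg _ (𝒰.ι_glueMorphisms H hglue (b x))

theorem IsPinch.isPushout (h : IsPinch i j a b) : IsPushout i j a b := by
  refine ⟨⟨h.comm⟩, ⟨PushoutCocone.IsColimit.mk _
    (fun c => (h.exists_desc c.inl c.inr c.condition).choose)
    (fun c => (h.exists_desc c.inl c.inr c.condition).choose_spec.1)
    (fun c => (h.exists_desc c.inl c.inr c.condition).choose_spec.2) (fun c m hm1 hm2 => ?_)⟩⟩
  exact h.hom_ext _ _ (hm1.trans (h.exists_desc c.inl c.inr c.condition).choose_spec.1.symm)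
    (hm2.trans (h.exists_desc c.inl c.inr c.condition).choose_spec.2.symm)

theorem IsPinch.of_iso (h : IsPinch i j a b) {P' : Scheme.{u}} (e : P ≅ P') :
    IsPinch i j (a ≫ e.hom) (b ≫ e.hom) where
  comm := by rw [← Category.assoc, h.comm, Category.assoc]
  chart p := by
    obtain ⟨k, u, hu, ⟨q, hq⟩, hX, hY, hXr, hYr⟩ := h.chart (e.inv p)
    have hcomp : ∀ x, e.inv (e.hom x) = x := fun x => by
      rw [← Scheme.Hom.comp_apply, e.hom_inv_id]; rfl
    have hrange : ∀ x, e.hom x ∈ Set.range (u ≫ e.hom) ↔ x ∈ Set.range u := fun x => by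
      constructor
      · rintro ⟨y, hy⟩
        exact ⟨y, by rw [← hcomp x, ← hy, Scheme.Hom.comp_apply, hcomp]⟩
      · rintro ⟨y, rfl⟩; exact ⟨y, Scheme.Hom.comp_apply _ _ _⟩
    refine ⟨k, u ≫ e.hom, inferInstance, ⟨q, ?_⟩, by rw [reassoc_of% hX], by rw [reassoc_of% hY],
      ?_, ?_⟩
    · rw [Scheme.Hom.comp_apply, hq, ← Scheme.Hom.comp_apply, e.inv_hom_id]; rfl
    · rw [← hXr]; ext x; exact hrange (a x)
    · rw [← hYr]; ext x; exact hrange (b x)

theorem IsPinch.of_isPushout (hs : Std i j) (h : IsPushout i j a b) : IsPinch i j a b := by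
  obtain ⟨P', a', b', h'⟩ := hs.exists_isPinch
  have := h'.of_iso (h'.isPushout.isoIsPushout _ _ h)
  rwa [IsPushout.inl_isoIsPushout_hom, IsPushout.inr_isoIsPushout_hom] at this

theorem IsPinch.isPullback_chartY {k : Pair i j} {u : k.spec ⟶ P} [IsOpenImmersion u]
    (hY : k.hV.fromSpec ≫ b = k.inY ≫ u) (hYr : b ⁻¹' Set.range u = (k.V : Set Y)) :
    IsPullback k.inY k.hV.fromSpec u b :=
  IsOpenImmersion.isPullback k.inY k.hV.fromSpec u b hY
    (by rw [k.hV.opensRange_fromSpec]; exact TopologicalSpace.Opens.ext hYr)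

theorem IsPinch.isPullback_chartX {k : Pair i j} {u : k.spec ⟶ P} [IsOpenImmersion u]
    (hX : k.hU.fromSpec ≫ a = k.inX ≫ u) (hXr : a ⁻¹' Set.range u = (k.U : Set X)) :
    IsPullback k.inX k.hU.fromSpec u a :=
  IsOpenImmersion.isPullback k.inX k.hU.fromSpec u a hX
    (by rw [k.hU.opensRange_fromSpec]; exact TopologicalSpace.Opens.ext hXr)

theorem Pair.isPullback_Z (k : Pair i j) :
    IsPullback (Spec.map (i.app k.U)) k.hW.fromSpec k.hU.fromSpec i :=
  IsOpenImmersion.isPullback _ _ _ _ k.spec_i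
    (by rw [k.hU.opensRange_fromSpec, k.hW.opensRange_fromSpec])

theorem Pair.isPullback_Zj (k : Pair i j) :
    IsPullback (Spec.map (j.appLE k.V (i ⁻¹ᵁ k.U) k.eq.le)) k.hW.fromSpec k.hV.fromSpec j :=
  IsOpenImmersion.isPullback _ _ _ _ k.spec_j
    (by rw [k.hV.opensRange_fromSpec, k.hW.opensRange_fromSpec, k.eq])

theorem IsPinch.isPullback (h : IsPinch i j a b) : IsPullback i j a b := by
  choose k u hu hp hX hY hXr hYr using h.chart
  let 𝒱 : X.OpenCover :=
    { I₀ := X
      X := fun x => Spec Γ(X, (k (a x)).U)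
      f := fun x => (k (a x)).hU.fromSpec
      mem₀ := (Scheme.ofArrows_mem_precoverage_iff _).mpr ⟨fun x => ⟨x, by
        show x ∈ Set.range (k (a x)).hU.fromSpec
        rw [(k (a x)).hU.range_fromSpec, ← hXr]; exact hp (a x)⟩, fun x => inferInstance⟩ }
  refine Scheme.isPullback_of_openCover i j a b 𝒱 fun x => ?_
  haveI := hu (a x)
  let K := k (a x)
  have hbig : IsPullback (Spec.map (i.app K.U))
      (Spec.map (j.appLE K.V (i ⁻¹ᵁ K.U) K.eq.le) ≫ K.hV.fromSpec) (K.inX ≫ u (a x)) b :=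
    IsPullback.paste_vert (K.isFib.isPullback) (IsPinch.isPullback_chartY (hY _) (hYr _))
  refine hbig.of_iso K.isPullback_Z.flip.isoPullback (Iso.refl _) (Iso.refl _) (Iso.refl _) ?_ ?_ ?_ ?_
  · simp only [Iso.refl_hom, Category.comp_id]
    exact (K.isPullback_Z.flip.isoPullback_hom_snd).symm
  · simp only [Iso.refl_hom, Category.comp_id]
    show _ = K.isPullback_Z.flip.isoPullback.hom ≫ pullback.fst _ _ ≫ j
    rw [K.isPullback_Z.flip.isoPullback_hom_fst_assoc, K.spec_j]
  · simp only [Iso.refl_hom, Category.comp_id, Category.id_comp]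
    exact (hX (a x)).symm
  · simp

/-- A property of morphisms local on the target holds for `a` if it holds on all charts. -/
theorem IsPinch.property_a (h : IsPinch i j a b) {Q : MorphismProperty Scheme.{u}}
    [IsZariskiLocalAtTarget Q] (hQ : ∀ k : Pair i j, Q k.inX) : Q a := by
  choose k u hu hp hX hY hXr hYr using h.chart
  let 𝒰 : P.OpenCover :=
    { I₀ := P
      X := fun p => (k p).spec
      f := u
      mem₀ := (Scheme.ofArrows_mem_precoverage_iff _).mpr ⟨fun p => ⟨p, hp p⟩, hu⟩ }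
  refine IsZariskiLocalAtTarget.of_openCover 𝒰 fun p => ?_
  haveI := hu p
  refine (Q.arrow_mk_iso_iff (Arrow.isoMk ((IsPinch.isPullback_chartX (hX p) (hXr p)).flip.isoPullback)
    (Iso.refl _) ?_)).mp (hQ (k p))
  show (IsPinch.isPullback_chartX (hX p) (hXr p)).flip.isoPullback.hom ≫ pullback.snd a (u p) =
    (k p).inX ≫ 𝟙 _
  rw [Category.comp_id, IsPullback.isoPullback_hom_snd]

/-- A property of morphisms local on the target holds for `b` if it holds on all charts. -/
theorem IsPinch.property_b (h : IsPinch i j a b) {Q : MorphismProperty Scheme.{u}}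
    [IsZariskiLocalAtTarget Q] (hQ : ∀ k : Pair i j, Q k.inY) : Q b := by
  choose k u hu hp hX hY hXr hYr using h.chart
  let 𝒰 : P.OpenCover :=
    { I₀ := P
      X := fun p => (k p).spec
      f := u
      mem₀ := (Scheme.ofArrows_mem_precoverage_iff _).mpr ⟨fun p => ⟨p, hp p⟩, hu⟩ }
  refine IsZariskiLocalAtTarget.of_openCover 𝒰 fun p => ?_
  haveI := hu p
  refine (Q.arrow_mk_iso_iff (Arrow.isoMk ((IsPinch.isPullback_chartY (hY p) (hYr p)).flip.isoPullback)
    (Iso.refl _) ?_)).mp (hQ (k p))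
  show (IsPinch.isPullback_chartY (hY p) (hYr p)).flip.isoPullback.hom ≫ pullback.snd b (u p) =
    (k p).inY ≫ 𝟙 _
  rw [Category.comp_id, IsPullback.isoPullback_hom_snd]

theorem IsPinch.isClosedImmersion_b (h : IsPinch i j a b) : IsClosedImmersion b :=
  h.property_b (Q := @IsClosedImmersion) fun k =>
    IsClosedImmersion.spec_of_surjective (CommRingCat.ofHom k.p1) k.isFib.surj1

theorem IsPinch.isAffineHom_a (h : IsPinch i j a b) : IsAffineHom a :=
  h.property_a (Q := @IsAffineHom) fun _ => inferInstance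

theorem IsPinch.isIntegralHom_a (h : IsPinch i j a b) [IsIntegralHom j] : IsIntegralHom a :=
  h.property_a (Q := @IsIntegralHom) fun k => by
    have : IsIntegralHom (sp k.r1) := MorphismProperty.of_isPullback k.isPullback_Zj.flip inferInstance
    exact IsIntegralHom.SpecMap_iff.mpr (k.isFib.isIntegral (IsIntegralHom.SpecMap_iff.mp this))

theorem IsPinch.isFinite_a (h : IsPinch i j a b) [IsFinite j] : IsFinite a :=
  h.property_a (Q := @IsFinite) fun k => by
    have : IsFinite (sp k.r1) := MorphismProperty.of_isPullback k.isPullback_Zj.flip inferInstance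
    exact (IsFinite.SpecMap_iff _).mpr (k.isFib.finite ((IsFinite.SpecMap_iff _).mp this))

theorem IsPinch.exists_preimage (h : IsPinch i j a b) (p : P) :
    (∃ y, b y = p) ∨ ∃ x, a x = p := by
  obtain ⟨k, u, hu, ⟨q, rfl⟩, hX, hY, -, -⟩ := h.chart p
  rcases k.exists_in q with ⟨s, rfl⟩ | ⟨s, rfl⟩
  · exact .inl ⟨k.hV.fromSpec s, by rw [← Scheme.Hom.comp_apply, hY]; rfl⟩
  · exact .inr ⟨k.hU.fromSpec s, by rw [← Scheme.Hom.comp_apply, hX]; rfl⟩

theorem IsPinch.surjective_b (h : IsPinch i j a b) (hi : Function.Surjective i) :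
    Function.Surjective b := fun p => by
  rcases h.exists_preimage p with hp | ⟨x, rfl⟩
  · exact hp
  · obtain ⟨z, rfl⟩ := hi x
    exact ⟨j z, by rw [← Scheme.Hom.comp_apply, ← h.comm]; rfl⟩

end Groth.L20.Pinch
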