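import Groth.Agent.L20.Pinch.Rel
import Mathlib.AlgebraicGeometry.Morphisms.QuasiFinite

/-!
# Quasi-finiteness of morphisms of pushouts along closed immersions
-/

set_option linter.style.haveILetI false
set_option linter.unusedSectionVars false
set_option backward.isDefEq.respectTransparency.types false

universe u

open CategoryTheory Limits AlgebraicGeometry Opposite

namespace Groth.L20.Pinch

open Groth.L09.Patch (sp)

variable {X Y Z P X' Y' Z' P' : Scheme.{u}} {i : Z ⟶ X} {j : Z ⟶ Y} [IsClosedImmersion i]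
  {i' : Z' ⟶ X'} {j' : Z' ⟶ Y'} [IsClosedImmersion i']
  {a : X ⟶ P} {b : Y ⟶ P} {a' : X' ⟶ P'} {b' : Y' ⟶ P'}
  {f : X' ⟶ X} {g : Y' ⟶ Y} {c : Z' ⟶ Z} {k : P' ⟶ P}

theorem finite_preimage_side {A A' : Scheme.{u}} {m : A ⟶ P} {m' : A' ⟶ P'} {q : A' ⟶ A}
    (hsq : IsPullback q m' m k) {R1 : Scheme.{u}} (u1 : R1 ⟶ P') [IsOpenImmersion u1]
    {U0 : A.Opens} {U1 : A'.Opens} (hU0 : IsAffineOpen U0) (hU1 : IsAffineOpen U1)
    (hle : U1 ≤ q ⁻¹ᵁ U0) [LocallyQuasiFinite q] (ι1 : Spec Γ(A', U1) ⟶ R1)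
    (h1 : hU1.fromSpec ≫ m' = ι1 ≫ u1) (hr1 : m' ⁻¹' Set.range u1 = (U1 : Set A')) (x : A)
    (hx : x ∈ U0) : {r : R1 | k (u1 r) = m x}.Finite := by
  obtain ⟨p, hp⟩ : x ∈ Set.range hU0.fromSpec := by rw [hU0.range_fromSpec]; exact hx
  let σ := Spec.map (q.appLE U0 U1 hle)
  haveI : LocallyQuasiFinite σ := (HasRingHomProperty.Spec_iff (P := @LocallyQuasiFinite)).mpr
    (HasRingHomProperty.appLE (P := @LocallyQuasiFinite) q ‹_› ⟨_, hU0⟩ ⟨_, hU1⟩ hle)
  refine ((σ.finite_preimage_singleton p).image ι1).subset fun r hr => ?_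
  obtain ⟨w, hw1, hw2⟩ := Scheme.Pullback.exists_preimage_pullback (f := m) (g := k) x (u1 r) hr.symm
  let x' := hsq.isoPullback.inv w
  have hq : q x' = x := by
    rw [← hw1]
    show (hsq.isoPullback.inv ≫ q) w = _
    rw [IsPullback.isoPullback_inv_fst]
  have hm : m' x' = u1 r := by
    rw [← hw2]
    show (hsq.isoPullback.inv ≫ m') w = _
    rw [IsPullback.isoPullback_inv_snd]
  have hxU : x' ∈ U1 := by
    have : x' ∈ m' ⁻¹' Set.range u1 := ⟨r, hm.symm⟩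
    rwa [hr1] at this
  obtain ⟨s, hs⟩ : x' ∈ Set.range hU1.fromSpec := by rw [hU1.range_fromSpec]; exact hxU
  refine ⟨s, hU0.fromSpec.isOpenEmbedding.injective ?_, u1.isOpenEmbedding.injective ?_⟩
  · rw [hp, ← hq, ← hs, ← Scheme.Hom.comp_apply, IsAffineOpen.SpecMap_appLE_fromSpec]; rfl
  · rw [← hm, ← hs, ← Scheme.Hom.comp_apply, ← h1]; rfl

theorem locallyQuasiFinite_of_relative (hp : IsPinch i j a b) (hp' : IsPinch i' j' a' b')
    (hX : IsPullback c i' i f) (hY : IsPullback c j' j g) (ha : a' ≫ k = f ≫ a)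
    (hb : b' ≫ k = g ≫ b) [LocallyOfFiniteType k] [LocallyQuasiFinite f] [LocallyQuasiFinite g] :
    LocallyQuasiFinite k := by
  have pX := hp.isPullback_relX hp' hX hY ha hb
  have pY := hp.isPullback_relY hp' hX hY ha hb
  choose k0 u0 k1 u1 ho hu0 hu1 hmem hX0 hY0 hXr0 hYr0 hX1 hY1 hXr1 hYr1 hk using
    hp.exists_rel hp' hX hY ha hb
  let 𝒱 : P'.OpenCover :=
    { I₀ := P'
      X := fun p => (k1 p).spec
      f := u1
      mem₀ := (Scheme.ofArrows_mem_precoverage_iff _).mpr ⟨fun p => ⟨p, hmem p⟩, hu1⟩ }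
  refine IsZariskiLocalAtSource.of_openCover (P := @LocallyQuasiFinite) 𝒱 fun p => ?_
  show LocallyQuasiFinite (u1 p ≫ k)
  haveI := hu1 p
  refine LocallyQuasiFinite.of_finite_preimage_singleton _ fun w => ?_
  by_cases hne : ∃ r, (u1 p ≫ k) r = w
  · obtain ⟨r, rfl⟩ := hne
    have hw : (u1 p ≫ k) r ∈ Set.range (u0 p) := ⟨sp ((ho p).ρ hX hY) r, by rw [hk p]; rfl⟩
    rcases hp.exists_preimage ((u1 p ≫ k) r) with ⟨y, hy⟩ | ⟨x, hx⟩
    · refine (finite_preimage_side pY (u1 p) (k0 p).hV (k1 p).hV (ho p).leV (k1 p).inY (hY1 p)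
        (hYr1 p) y ((hYr0 p).le (show b y ∈ Set.range (u0 p) from hy ▸ hw))).subset fun r' hr' => ?_
      exact (show k (u1 p r') = (u1 p ≫ k) r from hr').trans hy.symm
    · refine (finite_preimage_side pX (u1 p) (k0 p).hU (k1 p).hU (ho p).leU (k1 p).inX (hX1 p)
        (hXr1 p) x ((hXr0 p).le (show a x ∈ Set.range (u0 p) from hx ▸ hw))).subset fun r' hr' => ?_
      exact (show k (u1 p r') = (u1 p ≫ k) r from hr').trans hx.symm
  · exact (Set.finite_empty).subset fun r hr => hne ⟨r, hr⟩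

end Groth.L20.Pinch
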