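import Groth.Agent.L20.Pinch.Cases
import Mathlib.AlgebraicGeometry.ZariskisMainTheorem
import Mathlib.AlgebraicGeometry.Morphisms.QuasiFinite

/-!
# Affine neighbourhoods of fibres of integral morphisms
-/

set_option linter.style.haveILetI false
set_option linter.unusedSectionVars false
set_option backward.isDefEq.respectTransparency.types false

universe u

open CategoryTheory Limits AlgebraicGeometry Opposite

namespace Groth.L20.Pinch

/-- A fibre of an integral morphism of affine schemes, embedded as a closed subscheme of an open `O`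
of an affine scheme `A`, lies in a basic open of `A` contained in `O`. -/
theorem exists_basicOpen_of_fibre {T S A : Scheme.{u}} [IsAffine T] [IsAffine S] [IsAffine A]
    (π : T ⟶ S) [IsIntegralHom π] (O : A.Opens) (m : T ⟶ O) [IsClosedImmersion m] (y : S) :
    ∃ a : Γ(A, ⊤), A.basicOpen a ≤ O ∧ ∀ z, π z = y → O.ι (m z) ∈ A.basicOpen a := by
  classical
  have hA := isAffineOpen_top A
  have hT := isAffineOpen_top T
  have hS := isAffineOpen_top S
  let M := m ≫ O.ι
  let φ := M.appTop.hom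
  let ψ := π.appTop.hom
  have hψ : ψ.IsIntegral := IsIntegralHom.isIntegral_app π ⊤ hS
  have hcov : ∀ z : T, ∃ f : Γ(A, ⊤), M z ∈ A.basicOpen f ∧ A.basicOpen f ≤ O := fun z => by
    have hzO : M z ∈ O := by
      rw [Scheme.Hom.comp_apply]; exact (m z).2
    obtain ⟨f, hf, hzf⟩ := hA.exists_basicOpen_le (V := O) ⟨M z, hzO⟩ (TopologicalSpace.Opens.mem_top _)
    exact ⟨f, hzf, hf⟩
  choose f hf hfO using hcov
  obtain ⟨t, ht⟩ := hT.isCompact.elim_finite_subcover
    (fun z => ((M ⁻¹ᵁ A.basicOpen (f z)) : Set T)) (fun z => (M ⁻¹ᵁ A.basicOpen (f z)).isOpen)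
    fun z _ => Set.mem_iUnion.mpr ⟨z, hf z⟩
  have hs : ∀ g ∈ t.image f, ∀ c : Γ(T, ⊤), ∃ N : ℕ, φ g ^ N * c ∈ Set.range φ := by
    intro g hg c
    obtain ⟨z, -, rfl⟩ := Finset.mem_image.mp hg
    haveI := hA.isLocalization_basicOpen (f z)
    have hsur : Function.Surjective (M.app (A.basicOpen (f z))) := by
      have hD : IsAffineOpen (O.ι ⁻¹ᵁ A.basicOpen (f z)) :=
        (hA.basicOpen (f z)).preimage_of_isOpenImmersion O.ι (by rw [O.opensRange_ι]; exact hfO z)
      rw [Scheme.Hom.comp_app]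
      haveI : IsIso (O.ι.app (A.basicOpen (f z))) :=
        O.ι.isIso_app _ (by rw [O.opensRange_ι]; exact hfO z)
      exact (m.app_surjective _ hD).comp (ConcreteCategory.bijective_of_isIso _).2
    have hle : M ⁻¹ᵁ A.basicOpen (f z) ≤ ⊤ := le_top
    obtain ⟨s, hs⟩ := hsur (T.presheaf.map (homOfLE hle).op c)
    obtain ⟨n, a, ha⟩ := IsLocalization.Away.surj (f z) s
    have hsq : ∀ r : Γ(A, ⊤), M.app (A.basicOpen (f z)) (algebraMap Γ(A, ⊤) _ r) =
        T.presheaf.map (homOfLE hle).op (φ r) := fun r => by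
      show M.app _ (A.presheaf.map (homOfLE (A.basicOpen_le (f z))).op r) = _
      rw [← CommRingCat.comp_apply, M.naturality]
      rfl
    have e : T.presheaf.map (homOfLE hle).op (φ (f z) ^ n * c) =
        T.presheaf.map (homOfLE hle).op (φ a) := by
      rw [← hsq, ← ha, map_mul, map_mul, map_pow, map_pow, hsq, hs, mul_comm]
    letI : Algebra Γ(T, ⊤) Γ(T, M ⁻¹ᵁ A.basicOpen (f z)) :=
      (T.presheaf.map (homOfLE hle).op).hom.toAlgebra
    haveI : IsLocalization.Away (φ (f z)) Γ(T, M ⁻¹ᵁ A.basicOpen (f z)) :=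
      hT.isLocalization_of_eq_basicOpen _ _ (Scheme.preimage_basicOpen M _)
    obtain ⟨k, hk⟩ := IsLocalization.Away.exists_of_eq (φ (f z)) e
    exact ⟨k + n, f z ^ k * a, by rw [map_mul, map_pow, ← hk, pow_add, mul_assoc]⟩
  obtain ⟨a, ha, haq⟩ := exists_mem_span_forall_notMem ψ hψ
    (hS.primeIdealOf ⟨y, TopologicalSpace.Opens.mem_top _⟩).asIdeal
    (hS.primeIdealOf ⟨y, TopologicalSpace.Opens.mem_top _⟩).2 φ (t.image f) hs
  refine ⟨a, fun x hx => ?_, fun z hz => ?_⟩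
  · by_contra hxO
    let q := hA.primeIdealOf ⟨x, TopologicalSpace.Opens.mem_top _⟩
    have hmem : ∀ g, g ∉ q.asIdeal ↔ x ∈ A.basicOpen g := fun g => by
      rw [show x ∈ A.basicOpen g ↔ q ∈ hA.fromSpec ⁻¹ᵁ A.basicOpen g by
        show _ ↔ hA.fromSpec q ∈ A.basicOpen g
        rw [hA.fromSpec_primeIdealOf]]
      rw [hA.fromSpec_preimage_basicOpen]
      rfl
    refine (hmem a).mpr hx ((Ideal.span_le.mpr fun g hg => ?_) ha)
    obtain ⟨w, -, rfl⟩ := Finset.mem_image.mp hg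
    by_contra hn
    exact hxO (hfO w ((hmem _).mp hn))
  · let q := hT.primeIdealOf ⟨z, TopologicalSpace.Opens.mem_top _⟩
    have hmem : ∀ g, φ g ∉ q.asIdeal ↔ M z ∈ A.basicOpen g := fun g => by
      rw [show M z ∈ A.basicOpen g ↔ q ∈ hT.fromSpec ⁻¹ᵁ (M ⁻¹ᵁ A.basicOpen g) by
        show _ ↔ M (hT.fromSpec q) ∈ A.basicOpen g
        rw [hT.fromSpec_primeIdealOf]]
      rw [Scheme.preimage_basicOpen]
      erw [hT.fromSpec_preimage_basicOpen]
      rfl
    have hp : q.asIdeal.comap ψ = (hS.primeIdealOf ⟨y, TopologicalSpace.Opens.mem_top _⟩).asIdeal := by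
      have : Spec.map π.appTop q = hS.primeIdealOf ⟨y, TopologicalSpace.Opens.mem_top _⟩ := by
        apply hS.fromSpec.isOpenEmbedding.injective
        rw [hS.fromSpec_primeIdealOf, ← Scheme.Hom.comp_apply,
          show π.appTop = π.appLE ⊤ ⊤ le_top from Scheme.Hom.app_eq_appLE π,
          IsAffineOpen.SpecMap_appLE_fromSpec π hS hT, Scheme.Hom.comp_apply, hT.fromSpec_primeIdealOf]
        exact hz
      exact congrArg PrimeSpectrum.asIdeal this
    obtain ⟨w, hwt, hzw⟩ := Set.mem_iUnion₂.mp (ht (TopologicalSpace.Opens.mem_top z))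
    have h1 := haq _ q.2 hp ⟨f w, Finset.mem_image_of_mem f hwt, (hmem _).mpr hzw⟩
    exact (hmem a).mp h1

variable {X Y Z : Scheme.{u}} {i : Z ⟶ X} {j : Z ⟶ Y} [IsClosedImmersion i] [IsIntegralHom j]

/-- A fibre of an integral morphism lying in a quasi-compact open separated and quasi-finite over an
affine scheme lies in an affine open. -/
theorem exists_affine_of_lqf {S : Scheme.{u}} [IsAffine S] (O : X.Opens) (σ : O.toScheme ⟶ S)
    [LocallyOfFiniteType σ] [IsSeparated σ] [QuasiCompact σ] [LocallyQuasiFinite σ] (y : Y)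
    (hy : j ⁻¹' {y} ⊆ i ⁻¹' (O : Set X)) :
    ∃ U : X.Opens, IsAffineOpen U ∧ j ⁻¹' {y} ⊆ i ⁻¹' (U : Set X) := by
  let e := σ.toNormalization
  haveI : IsAffine σ.normalization := isAffine_of_isAffineHom σ.fromNormalization
  have hclosed : IsClosed (j '' (i ⁻¹' (O : Set X))ᶜ) :=
    j.isClosedMap _ (O.isOpen.preimage i.continuous).isClosed_compl
  obtain ⟨V, hV, hyV, hVle⟩ := exists_isAffineOpen_mem_and_subset (X := Y) (x := y)
    (U := ⟨_, hclosed.isOpen_compl⟩) (fun ⟨z, hz, hzy⟩ => hz (hy hzy))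
  obtain ⟨O', hO', hO'eq⟩ := i.isClosedEmbedding.isInducing.isOpen_iff.mp (j ⁻¹ᵁ V).isOpen
  let O'' : X.Opens := O ⊓ ⟨O', hO'⟩
  have hpre : i ⁻¹ᵁ O'' = j ⁻¹ᵁ V := by
    refine TopologicalSpace.Opens.ext (Set.ext fun z => ⟨fun hz => ?_, fun hz => ⟨?_, ?_⟩⟩)
    · exact hO'eq.le hz.2
    · by_contra hzO
      exact hVle hz ⟨z, hzO, rfl⟩
    · exact hO'eq.ge hz
  let ι : O''.toScheme ⟶ σ.normalization := X.homOfLE (inf_le_left : O'' ≤ O) ≫ e
  let R := ι.opensRange
  let m : (i ⁻¹ᵁ O'').toScheme ⟶ R.toScheme := (i ∣_ O'') ≫ ι.isoOpensRange.hom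
  haveI : IsClosedImmersion (i ∣_ O'') :=
    IsZariskiLocalAtTarget.restrict (P := @IsClosedImmersion) inferInstance O''
  haveI : IsAffine (i ⁻¹ᵁ O'').toScheme := by rw [hpre]; exact hV.preimage j
  haveI : IsAffine V.toScheme := hV
  let π : (i ⁻¹ᵁ O'').toScheme ⟶ V.toScheme := Z.homOfLE hpre.le ≫ (j ∣_ V)
  haveI : IsIntegralHom π := by
    haveI : IsIso (Z.homOfLE hpre.le) := (Z.isoOfEq hpre).isIso_hom
    haveI : IsIntegralHom (j ∣_ V) :=
      IsZariskiLocalAtTarget.restrict (P := @IsIntegralHom) inferInstance V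
    infer_instance
  obtain ⟨a, haR, haz⟩ := exists_basicOpen_of_fibre π R m ⟨y, hyV⟩
  let U : X.Opens := O''.ι ''ᵁ (ι ⁻¹ᵁ σ.normalization.basicOpen a)
  refine ⟨U, ?_, fun z hz => ?_⟩
  · refine IsAffineOpen.image_of_isOpenImmersion ?_ O''.ι
    exact (((isAffineOpen_top _).basicOpen a).preimage_of_isOpenImmersion ι haR)
  · have hzV : z ∈ i ⁻¹ᵁ O'' := by rw [hpre]; show j z ∈ V; rw [hz]; exact hyV
    have h1 := haz ⟨z, hzV⟩ (Subtype.ext ?_)
    swap
    · change ((j ∣_ V) (Z.homOfLE hpre.le ⟨z, hzV⟩)).1 = y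
      rw [morphismRestrict_base_coe, Scheme.homOfLE_base]; exact hz
    rw [← Scheme.Hom.comp_apply, Category.assoc, Scheme.Hom.isoOpensRange_hom_ι,
      Scheme.Hom.comp_apply] at h1
    refine ⟨(i ∣_ O'') ⟨z, hzV⟩, h1, ?_⟩
    exact morphismRestrict_base_coe i O'' ⟨z, hzV⟩

end Groth.L20.Pinch
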