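import Groth.Agent.L20.Pinch.Sep
import Groth.Agent.S6900
import Mathlib.AlgebraicGeometry.Morphisms.Etale
import Mathlib.Algebra.Category.Ring.Constructions

/-!
# Morphisms of pushouts along closed immersions
-/

set_option linter.style.haveILetI false
set_option linter.unusedSectionVars false
set_option backward.isDefEq.respectTransparency.types false

universe u

open CategoryTheory Limits AlgebraicGeometry Opposite

namespace Groth.L20.Pinch

open Groth.L09.Patch (sp sp_comp)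

section Ring

variable {T T1 T2 T0 : Type u} [CommRing T] [CommRing T1] [CommRing T2] [CommRing T0]
variable {S S1 S2 S0 : Type u} [CommRing S] [CommRing S1] [CommRing S2] [CommRing S0]
variable {φ1 : T →+* T1} {φ2 : T →+* T2} {ψ1 : T1 →+* T0} {ψ2 : T2 →+* T0}
variable {φ1' : S →+* S1} {φ2' : S →+* S2} {ψ1' : S1 →+* S0} {ψ2' : S2 →+* S0}
variable {ρ : T →+* S} {σ1 : T1 →+* S1} {σ2 : T2 →+* S2} {σ0 : T0 →+* S0}

/-- A map of fibre products of rings whose components have a common base change. -/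
structure IsRelFib (h : IsFib φ1 φ2 ψ1 ψ2) (h' : IsFib φ1' φ2' ψ1' ψ2') (ρ : T →+* S)
    (σ1 : T1 →+* S1) (σ2 : T2 →+* S2) (σ0 : T0 →+* S0) : Prop where
  comm1 : φ1'.comp ρ = σ1.comp φ1
  comm2 : φ2'.comp ρ = σ2.comp φ2
  base1 : IsPushout (CommRingCat.ofHom σ1) (CommRingCat.ofHom ψ1) (CommRingCat.ofHom ψ1')
    (CommRingCat.ofHom σ0)
  base2 : IsPushout (CommRingCat.ofHom σ2) (CommRingCat.ofHom ψ2) (CommRingCat.ofHom ψ2')
    (CommRingCat.ofHom σ0)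

theorem IsRelFib.conclusion {h : IsFib φ1 φ2 ψ1 ψ2} {h' : IsFib φ1' φ2' ψ1' ψ2'}
    (H : IsRelFib h h' ρ σ1 σ2 σ0) :
    (IsPushout (CommRingCat.ofHom ρ) (CommRingCat.ofHom φ1) (CommRingCat.ofHom φ1')
        (CommRingCat.ofHom σ1) ∧
      IsPushout (CommRingCat.ofHom ρ) (CommRingCat.ofHom φ2) (CommRingCat.ofHom φ2')
        (CommRingCat.ofHom σ2)) ∧
    (σ1.FiniteType → σ2.FiniteType → ρ.FiniteType) ∧
    (σ1.Flat → σ2.Flat → ρ.Flat) ∧
    (σ1.Flat → σ1.FinitePresentation → σ2.Flat → σ2.FinitePresentation →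
      ρ.FinitePresentation) ∧
    (σ1.Smooth → σ2.Smooth → ρ.Smooth) ∧ (σ1.Etale → σ2.Etale → ρ.Etale) := by
  letI := φ1.toAlgebra; letI := φ2.toAlgebra; letI := ψ1.toAlgebra; letI := ψ2.toAlgebra
  letI := φ1'.toAlgebra; letI := φ2'.toAlgebra; letI := ψ1'.toAlgebra; letI := ψ2'.toAlgebra
  letI := ρ.toAlgebra; letI := σ1.toAlgebra; letI := σ2.toAlgebra; letI := σ0.toAlgebra
  letI : Algebra T T0 := (ψ1.comp φ1).toAlgebra
  haveI : IsScalarTower T T1 T0 := IsScalarTower.of_algebraMap_eq fun t => rfl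
  haveI : IsScalarTower T T2 T0 := IsScalarTower.of_algebraMap_eq h.comm_apply
  letI : Algebra S S0 := (ψ1'.comp φ1').toAlgebra
  haveI : IsScalarTower S S1 S0 := IsScalarTower.of_algebraMap_eq fun t => rfl
  haveI : IsScalarTower S S2 S0 := IsScalarTower.of_algebraMap_eq h'.comm_apply
  letI : Algebra T S1 := (σ1.comp φ1).toAlgebra
  haveI : IsScalarTower T T1 S1 := IsScalarTower.of_algebraMap_eq fun t => rfl
  haveI : IsScalarTower T S S1 := IsScalarTower.of_algebraMap_eq fun t =>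
    (RingHom.congr_fun H.comm1 t).symm
  letI : Algebra T S2 := (σ2.comp φ2).toAlgebra
  haveI : IsScalarTower T T2 S2 := IsScalarTower.of_algebraMap_eq fun t => rfl
  haveI : IsScalarTower T S S2 := IsScalarTower.of_algebraMap_eq fun t =>
    (RingHom.congr_fun H.comm2 t).symm
  letI : Algebra T1 S0 := (σ0.comp ψ1).toAlgebra
  haveI : IsScalarTower T1 T0 S0 := IsScalarTower.of_algebraMap_eq fun t => rfl
  haveI : IsScalarTower T1 S1 S0 := IsScalarTower.of_algebraMap_eq fun t =>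
    (congrArg (fun f => CommRingCat.Hom.hom f t) H.base1.w).symm
  letI : Algebra T2 S0 := (σ0.comp ψ2).toAlgebra
  haveI : IsScalarTower T2 T0 S0 := IsScalarTower.of_algebraMap_eq fun t => rfl
  haveI : IsScalarTower T2 S2 S0 := IsScalarTower.of_algebraMap_eq fun t =>
    (congrArg (fun f => CommRingCat.Hom.hom f t) H.base2.w).symm
  haveI : Algebra.IsPushout T1 S1 T0 S0 := CommRingCat.isPushout_iff_isPushout.mp H.base1
  haveI : Algebra.IsPushout T2 S2 T0 S0 := CommRingCat.isPushout_iff_isPushout.mp H.base2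
  have hsq : EtMil.IsFibreSquare T T1 T2 T0 :=
    ⟨h.surj, fun x y hxy => existsUnique_of_exists_of_unique (h.glue x y hxy)
      fun s t hs ht => h.ext (hs.1.trans ht.1.symm) (hs.2.trans ht.2.symm)⟩
  have hsq' : EtMil.IsFibreSquare S S1 S2 S0 :=
    ⟨h'.surj, fun x y hxy => existsUnique_of_exists_of_unique (h'.glue x y hxy)
      fun s t hs ht => h'.ext (hs.1.trans ht.1.symm) (hs.2.trans ht.2.symm)⟩
  obtain ⟨hD, hC⟩ := Groth.L05.Mil.isPushout_of_fibreSquare (D := S1) (C' := S2) (C := S0) hsq hsq'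
  obtain ⟨hft, hfl, hfp, hsm, het⟩ := Groth.Agent.S6900.result T T1 T2 T0 hsq S S1 S2 S0 hsq'
  refine ⟨⟨CommRingCat.isPushout_iff_isPushout.mpr hD, CommRingCat.isPushout_iff_isPushout.mpr hC⟩,
    fun a b => hft.mpr ⟨a, b⟩, fun a b => hfl.mpr ⟨a, b⟩,
    fun a b c d => (hfp.mpr ⟨⟨a, b⟩, c, d⟩).2, fun a b => ?_, fun a b => ?_⟩
  · exact RingHom.smooth_algebraMap.mpr
      (hsm.mpr ⟨RingHom.smooth_algebraMap.mp a, RingHom.smooth_algebraMap.mp b⟩)
  · exact RingHom.etale_algebraMap.mpr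
      (het.mpr ⟨RingHom.etale_algebraMap.mp a, RingHom.etale_algebraMap.mp b⟩)

end Ring

variable {X Y Z P X' Y' Z' P' : Scheme.{u}} {i : Z ⟶ X} {j : Z ⟶ Y} [IsClosedImmersion i]
  {i' : Z' ⟶ X'} {j' : Z' ⟶ Y'} [IsClosedImmersion i']
  {a : X ⟶ P} {b : Y ⟶ P} {a' : X' ⟶ P'} {b' : Y' ⟶ P'}
  {f : X' ⟶ X} {g : Y' ⟶ Y} {c : Z' ⟶ Z} {k : P' ⟶ P}

/-- The pair `k1` lies over the pair `k0`. -/
structure Over (f : X' ⟶ X) (g : Y' ⟶ Y) (k0 : Pair i j) (k1 : Pair i' j') : Prop where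
  leU : k1.U ≤ f ⁻¹ᵁ k0.U
  leV : k1.V ≤ g ⁻¹ᵁ k0.V

theorem Over.leW {k0 : Pair i j} {k1 : Pair i' j'} (h : Over f g k0 k1)
    (hX : IsPullback c i' i f) : i' ⁻¹ᵁ k1.U ≤ c ⁻¹ᵁ (i ⁻¹ᵁ k0.U) := by
  rw [← Scheme.Hom.comp_preimage, hX.w, Scheme.Hom.comp_preimage]
  exact i'.preimage_mono h.leU

theorem Over.appLE_i {k0 : Pair i j} {k1 : Pair i' j'} (h : Over f g k0 k1)
    (hX : IsPullback c i' i f) :
    f.appLE k0.U k1.U h.leU ≫ i'.app k1.U =
      i.app k0.U ≫ c.appLE (i ⁻¹ᵁ k0.U) (i' ⁻¹ᵁ k1.U) (h.leW hX) := by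
  rw [Scheme.Hom.app_eq_appLE, Scheme.Hom.app_eq_appLE, Scheme.Hom.appLE_comp_appLE,
    Scheme.Hom.appLE_comp_appLE]
  simp only [hX.w]

theorem Over.appLE_j {k0 : Pair i j} {k1 : Pair i' j'} (h : Over f g k0 k1)
    (hX : IsPullback c i' i f) (hY : IsPullback c j' j g) :
    g.appLE k0.V k1.V h.leV ≫ j'.appLE k1.V (i' ⁻¹ᵁ k1.U) k1.eq.le =
      j.appLE k0.V (i ⁻¹ᵁ k0.U) k0.eq.le ≫ c.appLE (i ⁻¹ᵁ k0.U) (i' ⁻¹ᵁ k1.U) (h.leW hX) := by
  rw [Scheme.Hom.appLE_comp_appLE, Scheme.Hom.appLE_comp_appLE]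
  simp only [hY.w]

/-- The ring map between the fibre products. -/
noncomputable def Over.ρ {k0 : Pair i j} {k1 : Pair i' j'} (h : Over f g k0 k1)
    (hX : IsPullback c i' i f) (hY : IsPullback c j' j g) : k0.R →+* k1.R :=
  (((g.appLE k0.V k1.V h.leV).hom.comp k0.p1).prod
    ((f.appLE k0.U k1.U h.leU).hom.comp k0.p2)).codRestrict _ fun t => by
      show j'.appLE k1.V (i' ⁻¹ᵁ k1.U) k1.eq.le (g.appLE k0.V k1.V h.leV (k0.p1 t)) =
        i'.app k1.U (f.appLE k0.U k1.U h.leU (k0.p2 t))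
      rw [← CommRingCat.comp_apply, h.appLE_j hX hY, ← CommRingCat.comp_apply, h.appLE_i hX]
      exact congrArg (c.appLE (i ⁻¹ᵁ k0.U) (i' ⁻¹ᵁ k1.U) (h.leW hX)) (k0.isFib.comm_apply t)

/-- An open piece of a cartesian square is cartesian. -/
theorem isPullback_appLE {A B A' B' : Scheme.{u}} {m : A ⟶ B} {m' : A' ⟶ B'} {p : A' ⟶ A}
    {q : B' ⟶ B} (hsq : IsPullback p m' m q) {U : B.Opens} {U' : B'.Opens} {W : A.Opens}
    {W' : A'.Opens} (hU : IsAffineOpen U) (hU' : IsAffineOpen U') (hW : IsAffineOpen W)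
    (hW' : IsAffineOpen W') (e : U' ≤ q ⁻¹ᵁ U) (eW : m ⁻¹ᵁ U = W) (eW' : m' ⁻¹ᵁ U' = W')
    (eA : W' ≤ p ⁻¹ᵁ W) :
    IsPushout (q.appLE U U' e) (m.appLE U W eW.ge) (m'.appLE U' W' eW'.ge)
      (p.appLE W W' eA) := by
  have h1 : IsPullback hW'.fromSpec (Spec.map (m'.appLE U' W' eW'.ge)) m' hU'.fromSpec :=
    (IsOpenImmersion.isPullback _ _ _ _
      (IsAffineOpen.SpecMap_appLE_fromSpec m' hU' hW' eW'.ge).symm
      (by rw [hU'.opensRange_fromSpec, hW'.opensRange_fromSpec, eW'])).flip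
  have h2 : IsPullback hW.fromSpec (Spec.map (m.appLE U W eW.ge)) m hU.fromSpec :=
    (IsOpenImmersion.isPullback _ _ _ _
      (IsAffineOpen.SpecMap_appLE_fromSpec m hU hW eW.ge).symm
      (by rw [hU.opensRange_fromSpec, hW.opensRange_fromSpec, eW])).flip
  have h3 := h1.paste_horiz hsq
  rw [← IsAffineOpen.SpecMap_appLE_fromSpec p hW hW' eA,
    ← IsAffineOpen.SpecMap_appLE_fromSpec q hU hU' e] at h3
  have h4 : IsPullback (Spec.map (p.appLE W W' eA)) (Spec.map (m'.appLE U' W' eW'.ge))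
      (Spec.map (m.appLE U W eW.ge)) (Spec.map (q.appLE U U' e)) := by
    refine IsPullback.of_right h3 ?_ h2
    rw [← cancel_mono hU.fromSpec, Category.assoc, Category.assoc,
      IsAffineOpen.SpecMap_appLE_fromSpec m hU hW, IsAffineOpen.SpecMap_appLE_fromSpec q hU hU',
      IsAffineOpen.SpecMap_appLE_fromSpec_assoc p hW hW',
      IsAffineOpen.SpecMap_appLE_fromSpec_assoc m' hU' hW', hsq.w]
  exact ((IsPullback.of_map_of_faithful (F := Scheme.Spec)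
    (f := (p.appLE W W' eA).op) (g := (m'.appLE U' W' eW'.ge).op) (h := (m.appLE U W eW.ge).op)
    (i := (q.appLE U U' e).op) h4).unop)

theorem Over.isRelFib {k0 : Pair i j} {k1 : Pair i' j'} (h : Over f g k0 k1)
    (hX : IsPullback c i' i f) (hY : IsPullback c j' j g) :
    IsRelFib k0.isFib k1.isFib (h.ρ hX hY) (g.appLE k0.V k1.V h.leV).hom
      (f.appLE k0.U k1.U h.leU).hom (c.appLE (i ⁻¹ᵁ k0.U) (i' ⁻¹ᵁ k1.U) (h.leW hX)).hom := by
  refine ⟨rfl, rfl, ?_, ?_⟩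
  · exact isPullback_appLE hY k0.hV k1.hV k0.hW k1.hW h.leV k0.eq.symm k1.eq.symm (h.leW hX)
  · have := isPullback_appLE hX k0.hU k1.hU k0.hW k1.hW h.leU rfl rfl (h.leW hX)
    simpa [Pair.r2, Scheme.Hom.app_eq_appLE] using this

theorem Over.chartX {k0 : Pair i j} {k1 : Pair i' j'} (h : Over f g k0 k1)
    (hX : IsPullback c i' i f) (hY : IsPullback c j' j g) :
    k1.inX ≫ sp (h.ρ hX hY) = Spec.map (f.appLE k0.U k1.U h.leU) ≫ k0.inX := by
  show sp k1.p2 ≫ sp (h.ρ hX hY) = sp (f.appLE k0.U k1.U h.leU).hom ≫ sp k0.p2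
  rw [sp_comp, sp_comp]; rfl

theorem Over.chartY {k0 : Pair i j} {k1 : Pair i' j'} (h : Over f g k0 k1)
    (hX : IsPullback c i' i f) (hY : IsPullback c j' j g) :
    k1.inY ≫ sp (h.ρ hX hY) = Spec.map (g.appLE k0.V k1.V h.leV) ≫ k0.inY := by
  show sp k1.p1 ≫ sp (h.ρ hX hY) = sp (g.appLE k0.V k1.V h.leV).hom ≫ sp k0.p1
  rw [sp_comp, sp_comp]; rfl

/-- Charts of `P'` over charts of `P`. -/
theorem IsPinch.exists_rel (hp : IsPinch i j a b) (hp' : IsPinch i' j' a' b')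
    (hX : IsPullback c i' i f) (hY : IsPullback c j' j g) (ha : a' ≫ k = f ≫ a)
    (hb : b' ≫ k = g ≫ b) (p : P') :
    ∃ (k0 : Pair i j) (u0 : k0.spec ⟶ P) (k1 : Pair i' j') (u1 : k1.spec ⟶ P')
      (ho : Over f g k0 k1), IsOpenImmersion u0 ∧ IsOpenImmersion u1 ∧ p ∈ Set.range u1 ∧
      k0.hU.fromSpec ≫ a = k0.inX ≫ u0 ∧ k0.hV.fromSpec ≫ b = k0.inY ≫ u0 ∧
      a ⁻¹' Set.range u0 = (k0.U : Set X) ∧ b ⁻¹' Set.range u0 = (k0.V : Set Y) ∧
      k1.hU.fromSpec ≫ a' = k1.inX ≫ u1 ∧ k1.hV.fromSpec ≫ b' = k1.inY ≫ u1 ∧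
      a' ⁻¹' Set.range u1 = (k1.U : Set X') ∧ b' ⁻¹' Set.range u1 = (k1.V : Set Y') ∧
      u1 ≫ k = sp (ho.ρ hX hY) ≫ u0 := by
  obtain ⟨k0, u0, hu0, hp0, hX0, hY0, hXr0, hYr0⟩ := hp.chart (k p)
  haveI := hu0
  obtain ⟨k1, u1, hu1, hp1, hX1, hY1, hXr1, hYr1, hle⟩ :=
    hp'.exists_chart_le (k ⁻¹ᵁ u0.opensRange) p hp0
  have hU : k1.U ≤ f ⁻¹ᵁ k0.U := fun x hx => by
    have h1 : x ∈ a' ⁻¹' Set.range u1 := hXr1.ge hx
    have h2 : k (a' x) ∈ Set.range u0 := hle h1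
    rw [← Scheme.Hom.comp_apply, ha, Scheme.Hom.comp_apply] at h2
    exact hXr0.le h2
  have hV : k1.V ≤ g ⁻¹ᵁ k0.V := fun x hx => by
    have h1 : x ∈ b' ⁻¹' Set.range u1 := hYr1.ge hx
    have h2 : k (b' x) ∈ Set.range u0 := hle h1
    rw [← Scheme.Hom.comp_apply, hb, Scheme.Hom.comp_apply] at h2
    exact hYr0.le h2
  refine ⟨k0, u0, k1, u1, ⟨hU, hV⟩, hu0, hu1, hp1, hX0, hY0, hXr0, hYr0, hX1, hY1, hXr1, hYr1, ?_⟩
  refine k1.isFib.hom_ext_spec _ _ ?_ ?_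
  · show k1.inY ≫ u1 ≫ k = k1.inY ≫ sp _ ≫ u0
    rw [← Category.assoc, ← hY1, Category.assoc, hb, ← Category.assoc k1.inY, Over.chartY,
      Category.assoc, ← hY0, IsAffineOpen.SpecMap_appLE_fromSpec_assoc]
  · show k1.inX ≫ u1 ≫ k = k1.inX ≫ sp _ ≫ u0
    rw [← Category.assoc, ← hX1, Category.assoc, ha, ← Category.assoc k1.inX, Over.chartX,
      Category.assoc, ← hX0, IsAffineOpen.SpecMap_appLE_fromSpec_assoc]

theorem IsPinch.isPullback_relX (hp : IsPinch i j a b) (hp' : IsPinch i' j' a' b')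
    (hX : IsPullback c i' i f) (hY : IsPullback c j' j g) (ha : a' ≫ k = f ≫ a)
    (hb : b' ≫ k = g ≫ b) : IsPullback f a' a k := by
  choose k0 u0 k1 u1 ho hu0 hu1 hmem hX0 hY0 hXr0 hYr0 hX1 hY1 hXr1 hYr1 hk using
    hp.exists_rel hp' hX hY ha hb
  let 𝒱 : P'.OpenCover :=
    { I₀ := P'
      X := fun p => (k1 p).spec
      f := u1
      mem₀ := (Scheme.ofArrows_mem_precoverage_iff _).mpr ⟨fun p => ⟨p, hmem p⟩, hu1⟩ }
  refine (Scheme.isPullback_of_openCover a' f k a 𝒱 fun p => ?_).flip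
  haveI := hu0 p; haveI := hu1 p
  have hsq : IsPullback (Spec.map ((f.appLE (k0 p).U (k1 p).U (ho p).leU))) (k1 p).inX (k0 p).inX
      (sp ((ho p).ρ hX hY)) :=
    (isPullback_SpecMap_of_isPushout _ _ _ _ ((ho p).isRelFib hX hY).conclusion.1.2).flip
  have hbig := hsq.flip.paste_vert (IsPinch.isPullback_chartX (hX0 p) (hXr0 p))
  have hZ := (IsPinch.isPullback_chartX (hX1 p) (hXr1 p)).flip
  show IsPullback (pullback.snd a' (u1 p)) (pullback.fst a' (u1 p) ≫ f) (u1 p ≫ k) a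
  rw [hk p]
  refine hbig.of_iso hZ.isoPullback (Iso.refl _) (Iso.refl _) (Iso.refl _) ?_ ?_ ?_ ?_
  · simp only [Iso.refl_hom, Category.comp_id]
    exact hZ.isoPullback_hom_snd.symm
  · simp only [Iso.refl_hom, Category.comp_id]
    rw [hZ.isoPullback_hom_fst_assoc, IsAffineOpen.SpecMap_appLE_fromSpec]
  · simp only [Iso.refl_hom, Category.comp_id, Category.id_comp]
  · simp

theorem IsPinch.isPullback_relY (hp : IsPinch i j a b) (hp' : IsPinch i' j' a' b')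
    (hX : IsPullback c i' i f) (hY : IsPullback c j' j g) (ha : a' ≫ k = f ≫ a)
    (hb : b' ≫ k = g ≫ b) : IsPullback g b' b k := by
  choose k0 u0 k1 u1 ho hu0 hu1 hmem hX0 hY0 hXr0 hYr0 hX1 hY1 hXr1 hYr1 hk using
    hp.exists_rel hp' hX hY ha hb
  let 𝒱 : P'.OpenCover :=
    { I₀ := P'
      X := fun p => (k1 p).spec
      f := u1
      mem₀ := (Scheme.ofArrows_mem_precoverage_iff _).mpr ⟨fun p => ⟨p, hmem p⟩, hu1⟩ }
  refine (Scheme.isPullback_of_openCover b' g k b 𝒱 fun p => ?_).flip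
  haveI := hu0 p; haveI := hu1 p
  have hsq : IsPullback (Spec.map ((g.appLE (k0 p).V (k1 p).V (ho p).leV))) (k1 p).inY (k0 p).inY
      (sp ((ho p).ρ hX hY)) :=
    (isPullback_SpecMap_of_isPushout _ _ _ _ ((ho p).isRelFib hX hY).conclusion.1.1).flip
  have hbig := hsq.flip.paste_vert (IsPinch.isPullback_chartY (hY0 p) (hYr0 p))
  have hZ := (IsPinch.isPullback_chartY (hY1 p) (hYr1 p)).flip
  show IsPullback (pullback.snd b' (u1 p)) (pullback.fst b' (u1 p) ≫ g) (u1 p ≫ k) b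
  rw [hk p]
  refine hbig.of_iso hZ.isoPullback (Iso.refl _) (Iso.refl _) (Iso.refl _) ?_ ?_ ?_ ?_
  · simp only [Iso.refl_hom, Category.comp_id]
    exact hZ.isoPullback_hom_snd.symm
  · simp only [Iso.refl_hom, Category.comp_id]
    rw [hZ.isoPullback_hom_fst_assoc, IsAffineOpen.SpecMap_appLE_fromSpec]
  · simp only [Iso.refl_hom, Category.comp_id, Category.id_comp]
  · simp

/-- A property of morphisms local on the source holds for `k` if it holds on all charts. -/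
theorem IsPinch.property_k (hp : IsPinch i j a b) (hp' : IsPinch i' j' a' b')
    (hX : IsPullback c i' i f) (hY : IsPullback c j' j g) (ha : a' ≫ k = f ≫ a)
    (hb : b' ≫ k = g ≫ b) {Q : MorphismProperty Scheme.{u}}
    {R : ∀ {A B : Type u} [CommRing A] [CommRing B], (A →+* B) → Prop} [HasRingHomProperty Q R]
    [Q.IsStableUnderComposition] (hQ : ∀ {A B : Scheme.{u}} (o : A ⟶ B), IsOpenImmersion o → Q o)
    (hR : ∀ (k0 : Pair i j) (k1 : Pair i' j') (ho : Over f g k0 k1), R (ho.ρ hX hY)) : Q k := by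
  choose k0 u0 k1 u1 ho hu0 hu1 hmem _ _ _ _ _ _ _ _ hk using hp.exists_rel hp' hX hY ha hb
  let 𝒱 : P'.OpenCover :=
    { I₀ := P'
      X := fun p => (k1 p).spec
      f := u1
      mem₀ := (Scheme.ofArrows_mem_precoverage_iff _).mpr ⟨fun p => ⟨p, hmem p⟩, hu1⟩ }
  refine IsZariskiLocalAtSource.of_openCover (P := Q) 𝒱 fun p => ?_
  show Q (u1 p ≫ k)
  haveI := hu0 p
  rw [hk p]
  exact Q.comp_mem _ _ ((HasRingHomProperty.Spec_iff (P := Q)).mpr (hR _ _ (ho p))) (hQ _ (hu0 p))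

end Groth.L20.Pinch
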