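import Mathlib.AlgebraicGeometry.AffineScheme
import Mathlib.AlgebraicGeometry.Gluing
import Mathlib.AlgebraicGeometry.Cover.Open

/-!
# Gluing morphisms along a directed family of affine opens
-/

set_option linter.style.haveILetI false
set_option backward.isDefEq.respectTransparency.types false

universe u v

open CategoryTheory Limits AlgebraicGeometry Opposite

namespace Groth.L20.Pinch

theorem exists_glue_affine {S Q : Scheme.{u}} {κ : Type v} [Preorder κ] (U : κ → S.Opens)
    (hU : ∀ k, IsAffineOpen (U k)) (mono : ∀ {k l : κ}, k ≤ l → U k ≤ U l)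
    (cover : ∀ x : S, ∃ k, x ∈ U k)
    (dir : ∀ k l (x : S), x ∈ U k → x ∈ U l → ∃ d, d ≤ k ∧ d ≤ l ∧ x ∈ U d)
    (g : ∀ k, Spec Γ(S, U k) ⟶ Q)
    (hg : ∀ {k l : κ} (h : k ≤ l), Spec.map (S.presheaf.map (homOfLE (mono h)).op) ≫ g l = g k) :
    ∃ a : S ⟶ Q, ∀ k, (hU k).fromSpec ≫ a = g k := by
  choose c hc using cover
  let 𝒰 : S.OpenCover :=
    { I₀ := S
      X := fun x => Spec Γ(S, U (c x))
      f := fun x => (hU (c x)).fromSpec
      mem₀ := (Scheme.ofArrows_mem_precoverage_iff _).mpr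
        ⟨fun x => ⟨x, by
          show x ∈ Set.range (hU (c x)).fromSpec
          rw [(hU (c x)).range_fromSpec]; exact hc x⟩,
          fun x => inferInstance⟩ }
  have key : ∀ k l {W : Scheme.{u}} (s : W ⟶ Spec Γ(S, U k)) (t : W ⟶ Spec Γ(S, U l)),
      s ≫ (hU k).fromSpec = t ≫ (hU l).fromSpec → s ≫ g k = t ≫ g l := by
    intro k l W s t hst
    refine Scheme.hom_ext_of_forall _ _ fun w => ?_
    have hk : (s ≫ (hU k).fromSpec) w ∈ U k := by
      rw [Scheme.Hom.comp_apply]; exact (hU k).range_fromSpec.le ⟨_, rfl⟩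
    have hl : (s ≫ (hU k).fromSpec) w ∈ U l := by
      rw [hst, Scheme.Hom.comp_apply]; exact (hU l).range_fromSpec.le ⟨_, rfl⟩
    obtain ⟨d, hdk, hdl, hd⟩ := dir k l _ hk hl
    let O : W.Opens := (s ≫ (hU k).fromSpec) ⁻¹ᵁ U d
    refine ⟨O, hd, ?_⟩
    have hr : Set.range (O.ι ≫ s ≫ (hU k).fromSpec) ⊆ Set.range (hU d).fromSpec := by
      rw [(hU d).range_fromSpec]
      rintro _ ⟨y, rfl⟩
      rw [Scheme.Hom.comp_apply]
      exact y.2
    let e := IsOpenImmersion.lift (hU d).fromSpec (O.ι ≫ s ≫ (hU k).fromSpec) hr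
    have h1 : O.ι ≫ s = e ≫ Spec.map (S.presheaf.map (homOfLE (mono hdk)).op) := by
      rw [← cancel_mono (hU k).fromSpec, Category.assoc, Category.assoc,
        IsAffineOpen.map_fromSpec (hU k) (hU d), IsOpenImmersion.lift_fac]
    have h2 : O.ι ≫ t = e ≫ Spec.map (S.presheaf.map (homOfLE (mono hdl)).op) := by
      rw [← cancel_mono (hU l).fromSpec, Category.assoc, Category.assoc,
        IsAffineOpen.map_fromSpec (hU l) (hU d), IsOpenImmersion.lift_fac, hst]
    rw [← Category.assoc, h1, ← Category.assoc O.ι t, h2, Category.assoc, Category.assoc, hg hdk,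
      hg hdl]
  refine ⟨𝒰.glueMorphisms (fun x => g (c x)) fun x y => key _ _ _ _ pullback.condition,
    fun k => ?_⟩
  refine Scheme.Cover.hom_ext (𝒰.pullback₁ (hU k).fromSpec) _ _ fun x => ?_
  show pullback.fst (hU k).fromSpec (𝒰.f x) ≫ _ = pullback.fst (hU k).fromSpec (𝒰.f x) ≫ _
  rw [← Category.assoc, pullback.condition, Category.assoc, 𝒰.ι_glueMorphisms]
  exact (key k (c x) _ _ pullback.condition).symm

end Groth.L20.Pinch
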