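import Groth.Agent.L20.Pinch.Trans
import Groth.Agent.L20.Pinch.Glue

/-!
# Existence of pushouts along a closed immersion
-/

set_option linter.style.haveILetI false
set_option linter.unusedSectionVars false
set_option backward.isDefEq.respectTransparency.types false

universe u

open CategoryTheory Limits AlgebraicGeometry Opposite

namespace Groth.L20.Pinch

open Groth.L09.Patch (sp sp_comp)

variable {X Y Z : Scheme.{u}}

/-- A square which is locally, on the target, the spectrum of a fibre product of rings. -/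
structure IsPinch (i : Z ⟶ X) (j : Z ⟶ Y) [IsClosedImmersion i] {P : Scheme.{u}} (a : X ⟶ P)
    (b : Y ⟶ P) : Prop where
  comm : i ≫ a = j ≫ b
  chart : ∀ p : P, ∃ (k : Pair i j) (u : k.spec ⟶ P), IsOpenImmersion u ∧ p ∈ Set.range u ∧
    k.hU.fromSpec ≫ a = k.inX ≫ u ∧ k.hV.fromSpec ≫ b = k.inY ≫ u ∧
    a ⁻¹' Set.range u = (k.U : Set X) ∧ b ⁻¹' Set.range u = (k.V : Set Y)

/-- Every point of `Y` lies in a pair of affine opens with the same preimage. -/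
def Std (i : Z ⟶ X) (j : Z ⟶ Y) : Prop :=
  ∀ y : Y, ∃ k : Pair i j, y ∈ k.V

variable {i : Z ⟶ X} {j : Z ⟶ Y} [IsClosedImmersion i]

theorem Pair.bot (U : X.Opens) (hU : IsAffineOpen U) (h : i ⁻¹ᵁ U = ⊥) :
    ∃ k : Pair i j, k.U = U :=
  ⟨⟨U, ⊥, hU, isAffineOpen_bot Y, by rw [h]; exact (TopologicalSpace.Opens.ext rfl)⟩, rfl⟩

theorem Std.exists_mem_U (h : Std i j) (x : X) : ∃ k : Pair i j, x ∈ k.U := by
  by_cases hx : x ∈ Set.range i
  · obtain ⟨z, rfl⟩ := hx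
    obtain ⟨k, hk⟩ := h (j z)
    exact ⟨k, (SetLike.ext_iff.mp k.eq z).mpr hk⟩
  · obtain ⟨U, hU, hxU, hle⟩ := exists_isAffineOpen_mem_and_subset (X := X) (x := x)
      (U := ⟨(Set.range i)ᶜ, i.isClosedEmbedding.isClosed_range.isOpen_compl⟩) hx
    obtain ⟨k, hk⟩ := Pair.bot (j := j) U hU (by
      refine TopologicalSpace.Opens.ext (Set.eq_empty_iff_forall_notMem.mpr fun z hz => ?_)
      exact hle hz ⟨z, rfl⟩)
    exact ⟨k, hk ▸ hxU⟩

theorem Pair.dirU (k l : Pair i j) (x : X) (hk : x ∈ k.U) (hl : x ∈ l.U) :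
    ∃ d, d ≤ k ∧ d ≤ l ∧ x ∈ d.U := by
  obtain ⟨O, hY, hX⟩ := k.exists_pred l.U l.V l.eq
  obtain ⟨q, rfl⟩ : x ∈ Set.range k.hU.fromSpec := by rw [k.hU.range_fromSpec]; exact hk
  obtain ⟨_, ⟨α, rfl⟩, hpα, hα⟩ := PrimeSpectrum.isTopologicalBasis_basic_opens.exists_subset_of_mem_open
    ((hX q).mpr hl) O.isOpen
  refine ⟨k.basic α, k.basic_le α, Pair.basic_le_of_mem O hY hX α hα, ?_⟩
  show q ∈ k.hU.fromSpec ⁻¹ᵁ X.basicOpen (k.p2 α)
  rw [k.hU.fromSpec_preimage_basicOpen]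
  exact hpα

theorem Pair.dirV (k l : Pair i j) (y : Y) (hk : y ∈ k.V) (hl : y ∈ l.V) :
    ∃ d, d ≤ k ∧ d ≤ l ∧ y ∈ d.V := by
  obtain ⟨O, hY, hX⟩ := k.exists_pred l.U l.V l.eq
  obtain ⟨q, rfl⟩ : y ∈ Set.range k.hV.fromSpec := by rw [k.hV.range_fromSpec]; exact hk
  obtain ⟨_, ⟨α, rfl⟩, hpα, hα⟩ := PrimeSpectrum.isTopologicalBasis_basic_opens.exists_subset_of_mem_open
    ((hY q).mpr hl) O.isOpen
  refine ⟨k.basic α, k.basic_le α, Pair.basic_le_of_mem O hY hX α hα, ?_⟩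
  show q ∈ k.hV.fromSpec ⁻¹ᵁ Y.basicOpen (k.p1 α)
  rw [k.hV.fromSpec_preimage_basicOpen]
  exact hpα

theorem Pair.square (k : Pair i j) :
    Spec.map (i.app k.U) ≫ k.inX = Spec.map (j.appLE k.V (i ⁻¹ᵁ k.U) k.eq.le) ≫ k.inY := by
  show sp k.r2 ≫ sp k.p2 = sp k.r1 ≫ sp k.p1
  rw [sp_comp, sp_comp, k.isFib.comm]

theorem Pair.spec_i (k : Pair i j) :
    k.hW.fromSpec ≫ i = Spec.map (i.app k.U) ≫ k.hU.fromSpec := by
  rw [Scheme.Hom.app_eq_appLE, IsAffineOpen.SpecMap_appLE_fromSpec]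

theorem Pair.spec_j (k : Pair i j) :
    k.hW.fromSpec ≫ j = Spec.map (j.appLE k.V (i ⁻¹ᵁ k.U) k.eq.le) ≫ k.hV.fromSpec := by
  rw [IsAffineOpen.SpecMap_appLE_fromSpec]

theorem Pair.exists_cover_W (h : ∀ z : Z, ∃ k : Pair i j, i z ∈ k.U) {Q : Scheme.{u}}
    (f f' : Z ⟶ Q) (hk : ∀ k : Pair i j, k.hW.fromSpec ≫ f = k.hW.fromSpec ≫ f') : f = f' := by
  choose c hc using h
  let 𝒰 : Z.OpenCover :=
    { I₀ := Z
      X := fun z => Spec Γ(Z, i ⁻¹ᵁ (c z).U)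
      f := fun z => (c z).hW.fromSpec
      mem₀ := (Scheme.ofArrows_mem_precoverage_iff _).mpr ⟨fun z => ⟨z, by
        show z ∈ Set.range (c z).hW.fromSpec
        rw [(c z).hW.range_fromSpec]; exact hc z⟩, fun z => inferInstance⟩ }
  exact Scheme.Cover.hom_ext 𝒰 f f' fun z => hk (c z)

theorem Std.exists_isPinch (h : Std i j) :
    ∃ (P : Scheme.{u}) (a : X ⟶ P) (b : Y ⟶ P), IsPinch i j a b := by
  obtain ⟨a, ha⟩ := exists_glue_affine (κ := Pair i j) (fun k => k.U) (fun k => k.hU)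
    (fun {k l} (hkl : k ≤ l) => (Pair.le_def.mp hkl).1) h.exists_mem_U Pair.dirU
    (fun k => k.inX ≫ colimit.ι (Pair.diagram i j) k) fun {k l} hkl => by
      rw [← Category.assoc, ← Pair.inX_trans hkl, Category.assoc]
      congr 1
      exact colimit.w (Pair.diagram i j) (homOfLE hkl)
  obtain ⟨b, hb⟩ := exists_glue_affine (κ := Pair i j) (fun k => k.V) (fun k => k.hV)
    (fun {k l} (hkl : k ≤ l) => (Pair.le_def.mp hkl).2) h Pair.dirV
    (fun k => k.inY ≫ colimit.ι (Pair.diagram i j) k) fun {k l} hkl => by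
      rw [← Category.assoc, ← Pair.inY_trans hkl, Category.assoc]
      congr 1
      exact colimit.w (Pair.diagram i j) (homOfLE hkl)
  refine ⟨_, a, b, ⟨?_, fun p => ?_⟩⟩
  · refine Pair.exists_cover_W (fun z => h.exists_mem_U (i z)) _ _ fun k => ?_
    rw [← Category.assoc, k.spec_i, Category.assoc, ha, ← Category.assoc, k.square,
      ← Category.assoc k.hW.fromSpec j, k.spec_j, Category.assoc, Category.assoc, hb]
  · obtain ⟨k, q, hq⟩ := Scheme.IsLocallyDirected.ι_jointly_surjective (Pair.diagram i j) p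
    refine ⟨k, colimit.ι (Pair.diagram i j) k, Scheme.IsLocallyDirected.instIsOpenImmersionι (Pair.diagram i j) k, ⟨q, hq⟩, ha k, hb k, ?_, ?_⟩
    · refine Set.Subset.antisymm ?_ fun x hx => ?_
      · rintro x ⟨q', hq'⟩
        obtain ⟨l, hl⟩ := h.exists_mem_U x
        obtain ⟨q'', rfl⟩ : x ∈ Set.range l.hU.fromSpec := by rw [l.hU.range_fromSpec]; exact hl
        rw [← Scheme.Hom.comp_apply, ha, Scheme.Hom.comp_apply] at hq'
        obtain ⟨d, fk, fl, r, -, h2⟩ := (Scheme.IsLocallyDirected.ι_eq_ι_iff (Pair.diagram i j)).mp hq'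
        obtain ⟨-, O, hO, -, hOX⟩ := Pair.trans'_spec fl.le
        have : l.inX q'' ∈ O := hO.le ⟨r, h2⟩
        exact fk.le.1 ((hOX q'').mp this)
      · obtain ⟨q', rfl⟩ : x ∈ Set.range k.hU.fromSpec := by rw [k.hU.range_fromSpec]; exact hx
        exact ⟨k.inX q', by rw [← Scheme.Hom.comp_apply, ← Scheme.Hom.comp_apply, ha]⟩
    · refine Set.Subset.antisymm ?_ fun x hx => ?_
      · rintro x ⟨q', hq'⟩
        obtain ⟨l, hl⟩ := h x
        obtain ⟨q'', rfl⟩ : x ∈ Set.range l.hV.fromSpec := by rw [l.hV.range_fromSpec]; exact hl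
        rw [← Scheme.Hom.comp_apply, hb, Scheme.Hom.comp_apply] at hq'
        obtain ⟨d, fk, fl, r, -, h2⟩ := (Scheme.IsLocallyDirected.ι_eq_ι_iff (Pair.diagram i j)).mp hq'
        obtain ⟨-, O, hO, hOY, -⟩ := Pair.trans'_spec fl.le
        have : l.inY q'' ∈ O := hO.le ⟨r, h2⟩
        exact fk.le.2 ((hOY q'').mp this)
      · obtain ⟨q', rfl⟩ : x ∈ Set.range k.hV.fromSpec := by rw [k.hV.range_fromSpec]; exact hx
        exact ⟨k.inY q', by rw [← Scheme.Hom.comp_apply, ← Scheme.Hom.comp_apply, hb]⟩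

end Groth.L20.Pinch
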