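import Groth.Agent.L20.Pinch.Affine
import Mathlib.AlgebraicGeometry.Morphisms.ClosedImmersion
import Mathlib.AlgebraicGeometry.Gluing

/-!
# Pairs of affine opens for a pushout along a closed immersion

For `i : Z ⟶ X` a closed immersion and `j : Z ⟶ Y`, a `Pair` is a pair of affine opens with the same
preimage in `Z`. The spectra of the fibre products of their rings form a locally directed diagram.
-/

set_option linter.style.haveILetI false
set_option backward.isDefEq.respectTransparency.types false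

universe u

open CategoryTheory Limits AlgebraicGeometry Opposite

namespace Groth.L20.Pinch

open Groth.L09.Patch (sp sp_comp)

variable {X Y Z : Scheme.{u}} (i : Z ⟶ X) (j : Z ⟶ Y)

/-- A pair of affine opens with the same preimage. -/
structure Pair where
  /-- The open of `X`. -/
  U : X.Opens
  /-- The open of `Y`. -/
  V : Y.Opens
  hU : IsAffineOpen U
  hV : IsAffineOpen V
  eq : i ⁻¹ᵁ U = j ⁻¹ᵁ V

namespace Pair

variable {i j}

instance : Preorder (Pair i j) where
  le k l := k.U ≤ l.U ∧ k.V ≤ l.V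
  le_refl _ := ⟨le_rfl, le_rfl⟩
  le_trans _ _ _ h h' := ⟨h.1.trans h'.1, h.2.trans h'.2⟩

theorem le_def {k l : Pair i j} : k ≤ l ↔ k.U ≤ l.U ∧ k.V ≤ l.V := Iff.rfl

variable [IsClosedImmersion i]

theorem hW (k : Pair i j) : IsAffineOpen (i ⁻¹ᵁ k.U) := k.hU.preimage i

/-- `Γ(Y, V) → Γ(Z, W)`. -/
noncomputable abbrev r1 (k : Pair i j) : Γ(Y, k.V) →+* Γ(Z, i ⁻¹ᵁ k.U) :=
  (j.appLE k.V (i ⁻¹ᵁ k.U) k.eq.le).hom

/-- `Γ(X, U) → Γ(Z, W)`. -/
noncomputable abbrev r2 (k : Pair i j) : Γ(X, k.U) →+* Γ(Z, i ⁻¹ᵁ k.U) :=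
  (i.app k.U).hom

/-- The ring of the pushout over a pair. -/
noncomputable abbrev R (k : Pair i j) : Subring (Γ(Y, k.V) × Γ(X, k.U)) := Fib k.r1 k.r2

/-- The projection to `Γ(Y, V)`. -/
noncomputable abbrev p1 (k : Pair i j) : k.R →+* Γ(Y, k.V) := fib1 k.r1 k.r2

/-- The projection to `Γ(X, U)`. -/
noncomputable abbrev p2 (k : Pair i j) : k.R →+* Γ(X, k.U) := fib2 k.r1 k.r2

theorem isFib (k : Pair i j) : IsFib k.p1 k.p2 k.r1 k.r2 :=
  isFib_fib _ _ (i.app_surjective k.U k.hU)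

theorem r1_res {k l : Pair i j} (h : k ≤ l) (y : Γ(Y, l.V)) :
    k.r1 (Y.presheaf.map (homOfLE h.2).op y) =
      Z.presheaf.map (homOfLE (i.preimage_mono h.1)).op (l.r1 y) := by
  simp only [r1]
  rw [← CommRingCat.comp_apply, ← CommRingCat.comp_apply, Scheme.Hom.map_appLE,
    Scheme.Hom.appLE_map]

theorem r2_res {k l : Pair i j} (h : k ≤ l) (x : Γ(X, l.U)) :
    k.r2 (X.presheaf.map (homOfLE h.1).op x) =
      Z.presheaf.map (homOfLE (i.preimage_mono h.1)).op (l.r2 x) := by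
  simp only [r2]
  rw [← CommRingCat.comp_apply, ← CommRingCat.comp_apply, Scheme.Hom.app_eq_appLE,
    Scheme.Hom.app_eq_appLE, Scheme.Hom.map_appLE, Scheme.Hom.appLE_map]

/-- Restriction of the rings. -/
noncomputable def res {k l : Pair i j} (h : k ≤ l) : l.R →+* k.R :=
  (((Y.presheaf.map (homOfLE h.2).op).hom.comp l.p1).prod
    ((X.presheaf.map (homOfLE h.1).op).hom.comp l.p2)).codRestrict _ fun t => by
      show k.r1 (Y.presheaf.map (homOfLE h.2).op (l.p1 t)) =
        k.r2 (X.presheaf.map (homOfLE h.1).op (l.p2 t))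
      rw [r1_res h, r2_res h, l.isFib.comm_apply]

theorem res_p1 {k l : Pair i j} (h : k ≤ l) :
    k.p1.comp (res h) = (Y.presheaf.map (homOfLE h.2).op).hom.comp l.p1 := rfl

theorem res_p2 {k l : Pair i j} (h : k ≤ l) :
    k.p2.comp (res h) = (X.presheaf.map (homOfLE h.1).op).hom.comp l.p2 := rfl

theorem res_refl (k : Pair i j) (h : k ≤ k) : res h = RingHom.id _ := by
  refine RingHom.ext fun t => k.isFib.ext ?_ ?_
  · show Y.presheaf.map (homOfLE h.2).op (k.p1 t) = k.p1 t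
    rw [Subsingleton.elim (homOfLE h.2) (𝟙 _), op_id, CategoryTheory.Functor.map_id]; rfl
  · show X.presheaf.map (homOfLE h.1).op (k.p2 t) = k.p2 t
    rw [Subsingleton.elim (homOfLE h.1) (𝟙 _), op_id, CategoryTheory.Functor.map_id]; rfl

theorem res_trans {k l m : Pair i j} (h : k ≤ l) (h' : l ≤ m) (h'' : k ≤ m) :
    (res h).comp (res h') = res h'' := by
  refine RingHom.ext fun t => k.isFib.ext ?_ ?_
  · show Y.presheaf.map (homOfLE h.2).op (Y.presheaf.map (homOfLE h'.2).op (m.p1 t)) =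
      Y.presheaf.map (homOfLE h''.2).op (m.p1 t)
    rw [← CommRingCat.comp_apply, ← Functor.map_comp]; rfl
  · show X.presheaf.map (homOfLE h.1).op (X.presheaf.map (homOfLE h'.1).op (m.p2 t)) =
      X.presheaf.map (homOfLE h''.1).op (m.p2 t)
    rw [← CommRingCat.comp_apply, ← Functor.map_comp]; rfl

/-- The chart of the pushout at a pair. -/
noncomputable abbrev spec (k : Pair i j) : Scheme.{u} := Spec (CommRingCat.of k.R)

/-- The map from `U` to the chart. -/
noncomputable abbrev inX (k : Pair i j) : Spec Γ(X, k.U) ⟶ k.spec := sp k.p2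

/-- The map from `V` to the chart. -/
noncomputable abbrev inY (k : Pair i j) : Spec Γ(Y, k.V) ⟶ k.spec := sp k.p1

/-- The transition map of charts. -/
noncomputable def trans' {k l : Pair i j} (h : k ≤ l) : k.spec ⟶ l.spec := sp (res h)

theorem inX_trans {k l : Pair i j} (h : k ≤ l) :
    k.inX ≫ trans' h = Spec.map (X.presheaf.map (homOfLE h.1).op) ≫ l.inX := by
  rw [trans', inX, inX, sp_comp, res_p2, sp, sp, ← Spec.map_comp]; rfl

theorem inY_trans {k l : Pair i j} (h : k ≤ l) :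
    k.inY ≫ trans' h = Spec.map (Y.presheaf.map (homOfLE h.2).op) ≫ l.inY := by
  rw [trans', inY, inY, sp_comp, res_p1, sp, sp, ← Spec.map_comp]; rfl

/-- The predicate cutting out the part of a chart over a pair of opens. -/
theorem exists_pred (k : Pair i j) (U' : X.Opens) (V' : Y.Opens) (e : i ⁻¹ᵁ U' = j ⁻¹ᵁ V') :
    ∃ O : k.spec.Opens, (∀ q, k.inY q ∈ O ↔ k.hV.fromSpec q ∈ V') ∧
      (∀ q, k.inX q ∈ O ↔ k.hU.fromSpec q ∈ U') := by
  obtain ⟨G, hG1, hG2⟩ := k.isFib.exists_desc (W := Prop)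
    (fun s => k.hV.fromSpec s ∈ V') (fun q => k.hU.fromSpec q ∈ U') fun a => by
      have h1 : k.hV.fromSpec (Spec.map (j.appLE k.V (i ⁻¹ᵁ k.U) k.eq.le) a) =
          j (k.hW.fromSpec a) := by
        rw [← Scheme.Hom.comp_apply, IsAffineOpen.SpecMap_appLE_fromSpec j k.hV k.hW k.eq.le,
          Scheme.Hom.comp_apply]
      have h2 : k.hU.fromSpec (Spec.map (i.appLE k.U (i ⁻¹ᵁ k.U) le_rfl) a) =
          i (k.hW.fromSpec a) := by
        rw [← Scheme.Hom.comp_apply, IsAffineOpen.SpecMap_appLE_fromSpec i k.hU k.hW le_rfl,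
          Scheme.Hom.comp_apply]
      rw [← Scheme.Hom.app_eq_appLE] at h2
      show (k.hV.fromSpec (Spec.map (j.appLE k.V (i ⁻¹ᵁ k.U) k.eq.le) a) ∈ V') =
        (k.hU.fromSpec (Spec.map (i.app k.U) a) ∈ U')
      rw [h1, h2]
      exact propext (SetLike.ext_iff.mp e.symm (k.hW.fromSpec a))
  refine ⟨⟨{p | G p}, k.isFib.isOpen_of_preimages _ ?_ ?_⟩, fun q => ?_, fun q => ?_⟩
  · convert! V'.isOpen.preimage k.hV.fromSpec.continuous using 1
    ext s; exact Iff.of_eq (hG1 s)
  · convert! U'.isOpen.preimage k.hU.fromSpec.continuous using 1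
    ext s; exact Iff.of_eq (hG2 s)
  · exact Iff.of_eq (hG1 q)
  · exact Iff.of_eq (hG2 q)

theorem exists_in (k : Pair i j) (p : k.spec) :
    (∃ q, k.inY q = p) ∨ (∃ q, k.inX q = p) := k.isFib.exists_preimage p

end Pair

end Groth.L20.Pinch
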