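import Groth.Agent.L05.Mil.Spectrum
import Groth.Agent.L09.PatchPB
import Mathlib.RingTheory.Finiteness.Basic
import Mathlib.RingTheory.IntegralClosure.IsIntegral.Basic
import Mathlib.RingTheory.FiniteType
import Mathlib.RingTheory.Localization.Away.Basic
import Mathlib.RingTheory.Spectrum.Prime.RingHom

/-!
# Fibre products of rings along a surjection

`IsFib φ1 φ2 ψ1 ψ2` : `T = T1 ×_{T0} T2` with `ψ2 : T2 → T0` surjective.
-/

set_option linter.style.haveILetI false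

universe u

open CategoryTheory

namespace Groth.L20.Pinch

variable {T T1 T2 T0 : Type u} [CommRing T] [CommRing T1] [CommRing T2] [CommRing T0]

/-- `T = T1 ×_{T0} T2` with `ψ2` surjective. -/
structure IsFib (φ1 : T →+* T1) (φ2 : T →+* T2) (ψ1 : T1 →+* T0) (ψ2 : T2 →+* T0) : Prop where
  comm : ψ1.comp φ1 = ψ2.comp φ2
  inj : ∀ t, φ1 t = 0 → φ2 t = 0 → t = 0
  glue : ∀ x y, ψ1 x = ψ2 y → ∃ t, φ1 t = x ∧ φ2 t = y
  surj : Function.Surjective ψ2

/-- The concrete fibre product. -/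
abbrev Fib (ψ1 : T1 →+* T0) (ψ2 : T2 →+* T0) : Subring (T1 × T2) :=
  RingHom.eqLocus (ψ1.comp (RingHom.fst T1 T2)) (ψ2.comp (RingHom.snd T1 T2))

/-- First projection of the concrete fibre product. -/
abbrev fib1 (ψ1 : T1 →+* T0) (ψ2 : T2 →+* T0) : Fib ψ1 ψ2 →+* T1 :=
  (RingHom.fst T1 T2).comp (Fib ψ1 ψ2).subtype

/-- Second projection of the concrete fibre product. -/
abbrev fib2 (ψ1 : T1 →+* T0) (ψ2 : T2 →+* T0) : Fib ψ1 ψ2 →+* T2 :=
  (RingHom.snd T1 T2).comp (Fib ψ1 ψ2).subtype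

theorem isFib_fib (ψ1 : T1 →+* T0) (ψ2 : T2 →+* T0) (hs : Function.Surjective ψ2) :
    IsFib (fib1 ψ1 ψ2) (fib2 ψ1 ψ2) ψ1 ψ2 where
  comm := RingHom.ext fun t => t.2
  inj _ h1 h2 := Subtype.ext (Prod.ext h1 h2)
  glue x y h := ⟨⟨(x, y), h⟩, rfl, rfl⟩
  surj := hs

variable {φ1 : T →+* T1} {φ2 : T →+* T2} {ψ1 : T1 →+* T0} {ψ2 : T2 →+* T0}

theorem IsFib.comm_apply (h : IsFib φ1 φ2 ψ1 ψ2) (t : T) : ψ1 (φ1 t) = ψ2 (φ2 t) :=
  RingHom.congr_fun h.comm t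

theorem IsFib.ext (h : IsFib φ1 φ2 ψ1 ψ2) {s t : T} (h1 : φ1 s = φ1 t) (h2 : φ2 s = φ2 t) :
    s = t :=
  sub_eq_zero.mp (h.inj _ (by rw [map_sub, h1, sub_self]) (by rw [map_sub, h2, sub_self]))

theorem IsFib.surj1 (h : IsFib φ1 φ2 ψ1 ψ2) : Function.Surjective φ1 := fun x => by
  obtain ⟨y, hy⟩ := h.surj (ψ1 x)
  obtain ⟨t, ht, -⟩ := h.glue x y hy.symm
  exact ⟨t, ht⟩

theorem IsFib.exists_desc (h : IsFib φ1 φ2 ψ1 ψ2) {W : Type*} (l : PrimeSpectrum T1 → W)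
    (r : PrimeSpectrum T2 → W)
    (hc : ∀ a, l (PrimeSpectrum.comap ψ1 a) = r (PrimeSpectrum.comap ψ2 a)) :
    ∃ G : PrimeSpectrum T → W, (∀ s, G (PrimeSpectrum.comap φ1 s) = l s) ∧
      (∀ q, G (PrimeSpectrum.comap φ2 q) = r q) := by
  letI := φ1.toAlgebra; letI := φ2.toAlgebra; letI := ψ1.toAlgebra; letI := ψ2.toAlgebra
  letI : Algebra T T0 := (ψ1.comp φ1).toAlgebra
  haveI : IsScalarTower T T1 T0 := IsScalarTower.of_algebraMap_eq fun t => rfl
  haveI : IsScalarTower T T2 T0 := IsScalarTower.of_algebraMap_eq h.comm_apply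
  have hsq : EtMil.IsFibreSquare T T1 T2 T0 :=
    ⟨h.surj, fun x y hxy => existsUnique_of_exists_of_unique (h.glue x y hxy)
      fun s t hs ht => h.ext (hs.1.trans ht.1.symm) (hs.2.trans ht.2.symm)⟩
  obtain ⟨G, h1, h2, -⟩ := Groth.L05.Mil.exists_desc hsq l r hc
  exact ⟨G, h1, h2⟩

theorem IsFib.isClosed_of_preimages (h : IsFib φ1 φ2 ψ1 ψ2) (Z : Set (PrimeSpectrum T))
    (h₁ : IsClosed (PrimeSpectrum.comap φ1 ⁻¹' Z)) (h₂ : IsClosed (PrimeSpectrum.comap φ2 ⁻¹' Z)) :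
    IsClosed Z := by
  letI := φ1.toAlgebra; letI := φ2.toAlgebra; letI := ψ1.toAlgebra; letI := ψ2.toAlgebra
  letI : Algebra T T0 := (ψ1.comp φ1).toAlgebra
  haveI : IsScalarTower T T1 T0 := IsScalarTower.of_algebraMap_eq fun t => rfl
  haveI : IsScalarTower T T2 T0 := IsScalarTower.of_algebraMap_eq h.comm_apply
  have hsq : EtMil.IsFibreSquare T T1 T2 T0 :=
    ⟨h.surj, fun x y hxy => existsUnique_of_exists_of_unique (h.glue x y hxy)
      fun s t hs ht => h.ext (hs.1.trans ht.1.symm) (hs.2.trans ht.2.symm)⟩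
  exact Groth.L05.Mil.isClosed_of_preimages hsq Z h₁ h₂

theorem IsFib.isOpen_of_preimages (h : IsFib φ1 φ2 ψ1 ψ2) (Z : Set (PrimeSpectrum T))
    (h₁ : IsOpen (PrimeSpectrum.comap φ1 ⁻¹' Z)) (h₂ : IsOpen (PrimeSpectrum.comap φ2 ⁻¹' Z)) :
    IsOpen Z := by
  rw [← isClosed_compl_iff]
  exact h.isClosed_of_preimages _ h₁.isClosed_compl h₂.isClosed_compl

theorem IsFib.exists_preimage (h : IsFib φ1 φ2 ψ1 ψ2) (p : PrimeSpectrum T) :
    (∃ q, PrimeSpectrum.comap φ1 q = p) ∨ (∃ q, PrimeSpectrum.comap φ2 q = p) := by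
  by_cases hJ : RingHom.ker φ1 ≤ p.asIdeal
  · left
    show p ∈ Set.range (PrimeSpectrum.comap φ1)
    rw [range_comap_of_surjective _ _ h.surj1]; exact hJ
  · right
    letI := φ1.toAlgebra; letI := φ2.toAlgebra; letI := ψ1.toAlgebra; letI := ψ2.toAlgebra
    letI : Algebra T T0 := (ψ1.comp φ1).toAlgebra
    haveI : IsScalarTower T T1 T0 := IsScalarTower.of_algebraMap_eq fun t => rfl
    haveI : IsScalarTower T T2 T0 := IsScalarTower.of_algebraMap_eq h.comm_apply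
    have hsq : EtMil.IsFibreSquare T T1 T2 T0 :=
      ⟨h.surj, fun x y hxy => existsUnique_of_exists_of_unique (h.glue x y hxy)
        fun s t hs ht => h.ext (hs.1.trans ht.1.symm) (hs.2.trans ht.2.symm)⟩
    obtain ⟨q, hq, -⟩ := Groth.L05.Mil.exists_of_not_le hsq p hJ
    exact ⟨q, hq⟩

theorem IsFib.isPB (h : IsFib φ1 φ2 ψ1 ψ2) : Groth.L09.Patch.IsPB φ1 φ2 ψ1 ψ2 where
  inj := h.inj
  surj := h.exists_preimage
  comm := h.comm
  glue := h.glue

/-- Fibre products commute with localisation at an element. -/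
theorem IsFib.isLocalizationAway (h : IsFib φ1 φ2 ψ1 ψ2) {S S1 S2 S0 : Type u} [CommRing S]
    [CommRing S1] [CommRing S2] [CommRing S0] {φ1' : S →+* S1} {φ2' : S →+* S2}
    {ψ1' : S1 →+* S0} {ψ2' : S2 →+* S0} (h' : IsFib φ1' φ2' ψ1' ψ2') (α : T)
    [Algebra T S] [Algebra T1 S1] [Algebra T2 S2] [Algebra T0 S0]
    [IsLocalization.Away (φ1 α) S1] [IsLocalization.Away (φ2 α) S2]
    [IsLocalization.Away (ψ1 (φ1 α)) S0]
    (e1 : φ1'.comp (algebraMap T S) = (algebraMap T1 S1).comp φ1)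
    (e2 : φ2'.comp (algebraMap T S) = (algebraMap T2 S2).comp φ2)
    (e01 : ψ1'.comp (algebraMap T1 S1) = (algebraMap T0 S0).comp ψ1)
    (e02 : ψ2'.comp (algebraMap T2 S2) = (algebraMap T0 S0).comp ψ2) :
    IsLocalization.Away α S := by
  have c1 : ∀ t, φ1' (algebraMap T S t) = algebraMap T1 S1 (φ1 t) := RingHom.congr_fun e1
  have c2 : ∀ t, φ2' (algebraMap T S t) = algebraMap T2 S2 (φ2 t) := RingHom.congr_fun e2
  have d1 : ∀ t, ψ1' (algebraMap T1 S1 t) = algebraMap T0 S0 (ψ1 t) := RingHom.congr_fun e01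
  have d2 : ∀ t, ψ2' (algebraMap T2 S2 t) = algebraMap T0 S0 (ψ2 t) := RingHom.congr_fun e02
  refine IsLocalization.Away.mk α ?_ ?_ ?_
  · obtain ⟨u1, hu1⟩ := (IsLocalization.Away.algebraMap_isUnit (S := S1) (φ1 α)).exists_right_inv
    obtain ⟨u2, hu2⟩ := (IsLocalization.Away.algebraMap_isUnit (S := S2) (φ2 α)).exists_right_inv
    have he : ψ1' u1 = ψ2' u2 := by
      have a1 := congrArg ψ1' hu1
      have a2 := congrArg ψ2' hu2
      rw [map_mul, d1, map_one] at a1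
      rw [map_mul, d2, map_one, ← h.comm_apply] at a2
      exact (IsLocalization.Away.algebraMap_isUnit (S := S0) (ψ1 (φ1 α))).mul_left_cancel
        (a1.trans a2.symm)
    obtain ⟨w, hw1, hw2⟩ := h'.glue u1 u2 he
    exact IsUnit.of_mul_eq_one w (h'.ext (by rw [map_mul, c1, hw1, hu1, map_one])
      (by rw [map_mul, c2, hw2, hu2, map_one]))
  · intro z
    obtain ⟨n, x0, hx⟩ := IsLocalization.Away.surj (φ1 α) (φ1' z)
    obtain ⟨m, y0, hy⟩ := IsLocalization.Away.surj (φ2 α) (φ2' z)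
    have hx' : φ1' z * algebraMap T1 S1 (φ1 α) ^ (n + m) = algebraMap T1 S1 (x0 * φ1 α ^ m) := by
      rw [pow_add, ← mul_assoc, hx, map_mul, map_pow]
    have hy' : φ2' z * algebraMap T2 S2 (φ2 α) ^ (n + m) = algebraMap T2 S2 (y0 * φ2 α ^ n) := by
      rw [Nat.add_comm n m, pow_add, ← mul_assoc, hy, map_mul, map_pow]
    have he : algebraMap T0 S0 (ψ1 (x0 * φ1 α ^ m)) = algebraMap T0 S0 (ψ2 (y0 * φ2 α ^ n)) := by
      rw [← d1, ← d2, ← hx', ← hy', map_mul, map_mul, map_pow, map_pow, d1, d2, h.comm_apply α,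
        h'.comm_apply]
    obtain ⟨N, hN⟩ := IsLocalization.Away.exists_of_eq (ψ1 (φ1 α)) he
    obtain ⟨t0, ht1, ht2⟩ := h.glue (φ1 α ^ N * (x0 * φ1 α ^ m)) (φ2 α ^ N * (y0 * φ2 α ^ n))
      (by rw [map_mul, map_mul ψ2, map_pow, hN, h.comm_apply α, map_pow ψ2])
    refine ⟨N + (n + m), t0, h'.ext ?_ ?_⟩
    · rw [map_mul, map_pow, c1, c1, ht1, map_mul, map_pow (algebraMap T1 S1), ← hx', pow_add]
      ring
    · rw [map_mul, map_pow, c2, c2, ht2, map_mul, map_pow (algebraMap T2 S2), ← hy', pow_add]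
      ring
  · intro a b hab
    have a1 : algebraMap T1 S1 (φ1 a) = algebraMap T1 S1 (φ1 b) := by rw [← c1, ← c1, hab]
    have a2 : algebraMap T2 S2 (φ2 a) = algebraMap T2 S2 (φ2 b) := by rw [← c2, ← c2, hab]
    obtain ⟨n, hn⟩ := IsLocalization.Away.exists_of_eq (φ1 α) a1
    obtain ⟨m, hm⟩ := IsLocalization.Away.exists_of_eq (φ2 α) a2
    refine ⟨n + m, h.ext ?_ ?_⟩
    · rw [map_mul, map_mul, map_pow, pow_add, mul_right_comm, hn, mul_right_comm]
    · rw [map_mul, map_mul, map_pow, pow_add, mul_assoc, hm, ← mul_assoc]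

theorem IsFib.ker_le (h : IsFib φ1 φ2 ψ1 ψ2) {y : T2} (hy : ψ2 y = 0) :
    ∃ t, φ1 t = 0 ∧ φ2 t = y := h.glue 0 y (by rw [map_zero, hy])

theorem IsFib.finite (h : IsFib φ1 φ2 ψ1 ψ2) (hf : ψ1.Finite) : φ2.Finite := by
  letI := φ2.toAlgebra
  letI : Algebra T T0 := (ψ1.comp φ1).toAlgebra
  let g : T2 →ₗ[T] T0 :=
    { toFun := ψ2
      map_add' := map_add ψ2
      map_smul' := fun t y => by
        show ψ2 (φ2 t * y) = ψ1 (φ1 t) * ψ2 y
        rw [map_mul, h.comm_apply] }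
  haveI : Module.Finite T T0 := hf.comp (RingHom.Finite.of_surjective _ h.surj1)
  show Module.Finite T T2
  classical
  obtain ⟨s, hs⟩ := (Module.Finite.fg_top : (⊤ : Submodule T T0).FG)
  refine ⟨⟨insert 1 (s.image (Function.surjInv h.surj)), eq_top_iff.mpr fun y _ => ?_⟩⟩
  have hmap : g y ∈ (Submodule.span T (↑(s.image (Function.surjInv h.surj)) : Set T2)).map g := by
    rw [Submodule.map_span, Finset.coe_image, Set.image_image]
    simp only [g, LinearMap.coe_mk, AddHom.coe_mk, Function.surjInv_eq h.surj, Set.image_id', hs,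
      Submodule.mem_top]
  obtain ⟨z, hz, hzy⟩ := hmap
  obtain ⟨j, -, hj⟩ := h.ker_le (y := y - z) (by rw [map_sub]; exact sub_eq_zero.mpr hzy.symm)
  rw [Finset.coe_insert, Submodule.mem_span_insert]
  exact ⟨j, z, hz, by rw [Algebra.smul_def, mul_one]; exact (sub_eq_iff_eq_add.mp hj.symm)⟩

theorem IsFib.isIntegral (h : IsFib φ1 φ2 ψ1 ψ2) (hf : ψ1.IsIntegral) : φ2.IsIntegral := by
  intro y
  obtain ⟨P, hP, hPy⟩ := hf (ψ2 y)
  obtain ⟨Q, hQ, -, hQm⟩ := Polynomial.lifts_and_natDegree_eq_and_monic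
    ((Polynomial.mem_lifts P).mpr (Polynomial.map_surjective φ1 h.surj1 P)) hP
  have hz : ψ2 (Polynomial.eval₂ φ2 y Q) = 0 := by
    rw [Polynomial.hom_eval₂, ← h.comm, ← Polynomial.eval₂_map, hQ]
    exact hPy
  obtain ⟨j, -, hj⟩ := h.ker_le hz
  by_cases hd : Q.natDegree = 0
  · have h1 : Q = 1 := hQm.natDegree_eq_zero.mp hd
    have h0 : (1 : T0) = 0 := by
      have := hPy
      rw [← hQ, h1, Polynomial.map_one, Polynomial.eval₂_one] at this
      exact this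
    obtain ⟨k, -, rfl⟩ := h.ker_le (y := y) (by rw [← mul_one (ψ2 y), h0, mul_zero])
    exact φ2.isIntegralElem_map
  · refine ⟨Q - Polynomial.C j, hQm.sub_of_left ?_, ?_⟩
    · exact lt_of_le_of_lt Polynomial.degree_C_le
        (Polynomial.natDegree_pos_iff_degree_pos.mp (Nat.pos_of_ne_zero hd))
    · rw [Polynomial.eval₂_sub, Polynomial.eval₂_C, hj, sub_self]

end Groth.L20.Pinch
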