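import Groth.Agent.L20.Pinch.Props
import Mathlib.AlgebraicGeometry.Morphisms.Separated
import Mathlib.AlgebraicGeometry.Morphisms.UniversallyClosed
import Mathlib.AlgebraicGeometry.Morphisms.Immersion
import Mathlib.RingTheory.Adjoin.Tower
import Mathlib.AlgebraicGeometry.Noetherian

/-!
# Separatedness, finiteness and properness of pushouts along a closed immersion
-/

set_option linter.style.haveILetI false
set_option linter.unusedSectionVars false
set_option backward.isDefEq.respectTransparency.types false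

universe u

open CategoryTheory Limits AlgebraicGeometry Opposite

namespace Groth.L20.Pinch

open Groth.L09.Patch (sp)

section Cover

variable {X Y P S : Scheme.{u}} {a : X ⟶ P} {b : Y ⟶ P} {p : X ⟶ S} {q : Y ⟶ S} {r : P ⟶ S}
  (hsurj : ∀ x : P, (∃ y, b y = x) ∨ ∃ y, a y = x) (hp : a ≫ r = p) (hq : b ≫ r = q)

theorem diag_comp (hp : a ≫ r = p) : a ≫ pullback.diagonal r = pullback.diagonal p ≫
    pullback.map p p r r a a (𝟙 _) (by rw [hp, Category.comp_id])
      (by rw [hp, Category.comp_id]) := by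
  refine pullback.hom_ext ?_ ?_
  · rw [Category.assoc, Category.assoc, pullback.diagonal_fst, pullback.map, pullback.lift_fst,
      pullback.diagonal_fst_assoc, Category.comp_id]
  · rw [Category.assoc, Category.assoc, pullback.diagonal_snd, pullback.map, pullback.lift_snd,
      pullback.diagonal_snd_assoc, Category.comp_id]

include hsurj hp hq in
theorem range_diag : Set.range (pullback.diagonal r) =
    pullback.map p p r r a a (𝟙 _) (by rw [hp, Category.comp_id])
      (by rw [hp, Category.comp_id]) '' Set.range (pullback.diagonal p) ∪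
    pullback.map q q r r b b (𝟙 _) (by rw [hq, Category.comp_id])
      (by rw [hq, Category.comp_id]) '' Set.range (pullback.diagonal q) := by
  refine Set.Subset.antisymm ?_ (Set.union_subset ?_ ?_)
  · rintro _ ⟨x, rfl⟩
    rcases hsurj x with ⟨y, rfl⟩ | ⟨y, rfl⟩
    · right; exact ⟨_, ⟨y, rfl⟩, by
        rw [← Scheme.Hom.comp_apply, ← diag_comp hq]; rfl⟩
    · left; exact ⟨_, ⟨y, rfl⟩, by
        rw [← Scheme.Hom.comp_apply, ← diag_comp hp]; rfl⟩
  · rintro _ ⟨_, ⟨y, rfl⟩, rfl⟩
    exact ⟨a y, by rw [← Scheme.Hom.comp_apply, diag_comp hp]; rfl⟩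
  · rintro _ ⟨_, ⟨y, rfl⟩, rfl⟩
    exact ⟨b y, by rw [← Scheme.Hom.comp_apply, diag_comp hq]; rfl⟩

include hsurj hp hq in
theorem isSeparated_of_cover [UniversallyClosed a] [UniversallyClosed b] [IsSeparated p]
    [IsSeparated q] : IsSeparated r := by
  refine ⟨IsClosedImmersion.of_isPreimmersion _ ?_⟩
  rw [range_diag hsurj hp hq]
  haveI : UniversallyClosed (pullback.map p p r r a a (𝟙 _) (by rw [hp, Category.comp_id])
      (by rw [hp, Category.comp_id])) :=
    MorphismProperty.pullbackMap (P := @UniversallyClosed) ‹_› ‹_› hp.symm hp.symm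
  haveI : UniversallyClosed (pullback.map q q r r b b (𝟙 _) (by rw [hq, Category.comp_id])
      (by rw [hq, Category.comp_id])) :=
    MorphismProperty.pullbackMap (P := @UniversallyClosed) ‹_› ‹_› hq.symm hq.symm
  exact ((Scheme.Hom.isClosedMap _) _ (pullback.diagonal p).isClosedEmbedding.isClosed_range).union
    ((Scheme.Hom.isClosedMap _) _ (pullback.diagonal q).isClosedEmbedding.isClosed_range)

include hsurj hp hq in
theorem quasiSeparated_of_cover [QuasiCompact a] [QuasiCompact b] [QuasiSeparated p]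
    [QuasiSeparated q] : QuasiSeparated r := by
  refine ⟨⟨fun W hW hWc => ?_⟩⟩
  let m := pullback.map p p r r a a (𝟙 _) (by rw [hp, Category.comp_id]) (by rw [hp, Category.comp_id])
  let n := pullback.map q q r r b b (𝟙 _) (by rw [hq, Category.comp_id]) (by rw [hq, Category.comp_id])
  haveI : QuasiCompact m := MorphismProperty.pullbackMap (P := @QuasiCompact) ‹_› ‹_› hp.symm hp.symm
  haveI : QuasiCompact n := MorphismProperty.pullbackMap (P := @QuasiCompact) ‹_› ‹_› hq.symm hq.symm
  have e : pullback.diagonal r ⁻¹' W =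
      a '' (pullback.diagonal p ⁻¹' (m ⁻¹' W)) ∪ b '' (pullback.diagonal q ⁻¹' (n ⁻¹' W)) := by
    refine Set.Subset.antisymm (fun x hx => ?_) (Set.union_subset ?_ ?_)
    · rcases hsurj x with ⟨y, rfl⟩ | ⟨y, rfl⟩
      · right; exact ⟨y, by
          rw [Set.mem_preimage, Set.mem_preimage, ← Scheme.Hom.comp_apply, ← diag_comp hq]; exact hx,
          rfl⟩
      · left; exact ⟨y, by
          rw [Set.mem_preimage, Set.mem_preimage, ← Scheme.Hom.comp_apply, ← diag_comp hp]; exact hx,
          rfl⟩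
    · rintro _ ⟨y, hy, rfl⟩
      rw [Set.mem_preimage, Set.mem_preimage, ← Scheme.Hom.comp_apply, ← diag_comp hp] at hy
      exact hy
    · rintro _ ⟨y, hy, rfl⟩
      rw [Set.mem_preimage, Set.mem_preimage, ← Scheme.Hom.comp_apply, ← diag_comp hq] at hy
      exact hy
  rw [e]
  exact ((QuasiCompact.isCompact_preimage _ (hW.preimage m.continuous)
      (QuasiCompact.isCompact_preimage _ hW hWc)).image a.continuous).union
    ((QuasiCompact.isCompact_preimage _ (hW.preimage n.continuous)
      (QuasiCompact.isCompact_preimage _ hW hWc)).image b.continuous)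

include hsurj hp hq in
theorem quasiCompact_of_cover [QuasiCompact p] [QuasiCompact q] : QuasiCompact r := by
  refine ⟨fun W hW hWc => ?_⟩
  have e : r ⁻¹' W = a '' (p ⁻¹' W) ∪ b '' (q ⁻¹' W) := by
    refine Set.Subset.antisymm (fun x hx => ?_) (Set.union_subset ?_ ?_)
    · rcases hsurj x with ⟨y, rfl⟩ | ⟨y, rfl⟩
      · right; exact ⟨y, by rw [← hq, Set.mem_preimage, Scheme.Hom.comp_apply]; exact hx, rfl⟩
      · left; exact ⟨y, by rw [← hp, Set.mem_preimage, Scheme.Hom.comp_apply]; exact hx, rfl⟩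
    · rintro _ ⟨y, hy, rfl⟩
      rw [← hp, Set.mem_preimage, Scheme.Hom.comp_apply] at hy; exact hy
    · rintro _ ⟨y, hy, rfl⟩
      rw [← hq, Set.mem_preimage, Scheme.Hom.comp_apply] at hy; exact hy
  rw [e]
  exact ((QuasiCompact.isCompact_preimage _ hW hWc).image a.continuous).union
    ((QuasiCompact.isCompact_preimage _ hW hWc).image b.continuous)

include hsurj hp hq in
theorem universallyClosed_of_cover [UniversallyClosed p] [UniversallyClosed q] :
    UniversallyClosed r := by
  refine ⟨MorphismProperty.universally_mk' _ r fun {T} g _ C hC => ?_⟩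
  let ga : pullback g p ⟶ pullback g r := pullback.map g p g r (𝟙 T) a (𝟙 S) (by simp) (by simp [hp])
  let gb : pullback g q ⟶ pullback g r := pullback.map g q g r (𝟙 T) b (𝟙 S) (by simp) (by simp [hq])
  have e : pullback.fst g r '' C =
      pullback.fst g p '' (ga ⁻¹' C) ∪ pullback.fst g q '' (gb ⁻¹' C) := by
    refine Set.Subset.antisymm ?_ (Set.union_subset ?_ ?_)
    · rintro _ ⟨c, hc, rfl⟩
      rcases hsurj (pullback.snd g r c) with ⟨y, hy⟩ | ⟨y, hy⟩
      · have h2 : IsPullback gb (pullback.snd g q) (pullback.snd g r) b :=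
          IsPullback.of_right (by
              rw [show gb ≫ pullback.fst g r = pullback.fst g q from
                (pullback.lift_fst _ _ _).trans (Category.comp_id _), hq]
              exact IsPullback.of_hasPullback g q)
            (pullback.lift_snd _ _ _) (IsPullback.of_hasPullback g r)
        obtain ⟨z, hz, -⟩ := Scheme.Pullback.exists_preimage_pullback (f := pullback.snd g r) (g := b)
          c y hy.symm
        right
        have hgz : gb (h2.isoPullback.inv z) = c := by
          rw [← hz, ← Scheme.Hom.comp_apply, h2.isoPullback_inv_fst]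
        refine ⟨h2.isoPullback.inv z, by rw [Set.mem_preimage, hgz]; exact hc, ?_⟩
        rw [← hgz, ← Scheme.Hom.comp_apply gb, pullback.lift_fst, Category.comp_id]
      · have h2 : IsPullback ga (pullback.snd g p) (pullback.snd g r) a :=
          IsPullback.of_right (by
              rw [show ga ≫ pullback.fst g r = pullback.fst g p from
                (pullback.lift_fst _ _ _).trans (Category.comp_id _), hp]
              exact IsPullback.of_hasPullback g p)
            (pullback.lift_snd _ _ _) (IsPullback.of_hasPullback g r)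
        obtain ⟨z, hz, -⟩ := Scheme.Pullback.exists_preimage_pullback (f := pullback.snd g r) (g := a)
          c y hy.symm
        left
        have hgz : ga (h2.isoPullback.inv z) = c := by
          rw [← hz, ← Scheme.Hom.comp_apply, h2.isoPullback_inv_fst]
        refine ⟨h2.isoPullback.inv z, by rw [Set.mem_preimage, hgz]; exact hc, ?_⟩
        rw [← hgz, ← Scheme.Hom.comp_apply ga, pullback.lift_fst, Category.comp_id]
    · rintro _ ⟨c, hc, rfl⟩
      exact ⟨ga c, hc, by rw [← Scheme.Hom.comp_apply ga, pullback.lift_fst, Category.comp_id]⟩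
    · rintro _ ⟨c, hc, rfl⟩
      exact ⟨gb c, hc, by rw [← Scheme.Hom.comp_apply gb, pullback.lift_fst, Category.comp_id]⟩
  rw [e]
  exact ((Scheme.Hom.isClosedMap _) _ (hC.preimage ga.continuous)).union
    ((Scheme.Hom.isClosedMap _) _ (hC.preimage gb.continuous))

end Cover

theorem IsFib.finiteType {T T1 T2 T0 : Type u} [CommRing T] [CommRing T1] [CommRing T2]
    [CommRing T0] {φ1 : T →+* T1} {φ2 : T →+* T2} {ψ1 : T1 →+* T0} {ψ2 : T2 →+* T0}
    (h : IsFib φ1 φ2 ψ1 ψ2) (hf : ψ1.Finite) {A : Type u} [CommRing A] [IsNoetherianRing A]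
    (γ : A →+* T) (h1 : (φ1.comp γ).FiniteType) (h2 : (φ2.comp γ).FiniteType) : γ.FiniteType := by
  letI := γ.toAlgebra
  letI := φ1.toAlgebra
  letI := φ2.toAlgebra
  letI : Algebra A T1 := (φ1.comp γ).toAlgebra
  letI : Algebra A T2 := (φ2.comp γ).toAlgebra
  haveI : IsScalarTower A T T1 := IsScalarTower.of_algebraMap_eq fun _ => rfl
  haveI : IsScalarTower A T T2 := IsScalarTower.of_algebraMap_eq fun _ => rfl
  haveI : Algebra.FiniteType A T1 := h1
  haveI : Algebra.FiniteType A T2 := h2
  haveI : Module.Finite T T1 := RingHom.Finite.of_surjective φ1 h.surj1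
  haveI : Module.Finite T T2 := h.finite hf
  exact ⟨fg_of_fg_of_fg A T (T1 × T2) Algebra.FiniteType.out Module.Finite.fg_top
    fun s t hst => h.ext (congrArg Prod.fst hst) (congrArg Prod.snd hst)⟩

variable {X Y Z P : Scheme.{u}} {i : Z ⟶ X} {j : Z ⟶ Y} [IsClosedImmersion i] {a : X ⟶ P}
  {b : Y ⟶ P}

theorem IsPinch.exists_chart_le (h : IsPinch i j a b) (O : P.Opens) (p : P) (hp : p ∈ O) :
    ∃ (k : Pair i j) (u : k.spec ⟶ P), IsOpenImmersion u ∧ p ∈ Set.range u ∧
      k.hU.fromSpec ≫ a = k.inX ≫ u ∧ k.hV.fromSpec ≫ b = k.inY ≫ u ∧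
      a ⁻¹' Set.range u = (k.U : Set X) ∧ b ⁻¹' Set.range u = (k.V : Set Y) ∧
      Set.range u ⊆ (O : Set P) := by
  obtain ⟨k, u, hu, ⟨q, rfl⟩, hX, hY, hXr, hYr⟩ := h.chart p
  obtain ⟨_, ⟨α, rfl⟩, hqα, hα⟩ :=
    PrimeSpectrum.isTopologicalBasis_basic_opens.exists_subset_of_mem_open hp (u ⁻¹ᵁ O).isOpen
  obtain ⟨-, hr⟩ := Pair.isOpenImmersion_of_basic (k.basic_le α) α rfl rfl
  have hrange : Set.range (Pair.trans' (k.basic_le α) ≫ u) =
      u '' (PrimeSpectrum.basicOpen α : Set (PrimeSpectrum k.R)) := by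
    rw [← hr, ← Set.range_comp]; rfl
  refine ⟨k.basic α, Pair.trans' (k.basic_le α) ≫ u, inferInstance, ?_, ?_, ?_, ?_, ?_, ?_⟩
  · rw [hrange]; exact ⟨q, hqα, rfl⟩
  · rw [← Category.assoc, Pair.inX_trans, Category.assoc, ← hX, ← Category.assoc,
      IsAffineOpen.map_fromSpec k.hU (k.basic α).hU]
  · rw [← Category.assoc, Pair.inY_trans, Category.assoc, ← hY, ← Category.assoc,
      IsAffineOpen.map_fromSpec k.hV (k.basic α).hV]
  · rw [hrange]
    ext x
    constructor
    · rintro ⟨s, hs, hsx⟩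
      have hxU : x ∈ (k.U : Set X) := hXr ▸ (⟨s, hsx⟩ : x ∈ a ⁻¹' Set.range u)
      obtain ⟨t, rfl⟩ : x ∈ Set.range k.hU.fromSpec := by rw [k.hU.range_fromSpec]; exact hxU
      have : s = k.inX t := u.isOpenEmbedding.injective (by
        rw [hsx, ← Scheme.Hom.comp_apply, hX]; rfl)
      subst this
      show t ∈ k.hU.fromSpec ⁻¹ᵁ X.basicOpen (k.p2 α)
      rw [k.hU.fromSpec_preimage_basicOpen]; exact hs
    · intro hx
      obtain ⟨t, rfl⟩ : x ∈ Set.range k.hU.fromSpec := by
        rw [k.hU.range_fromSpec]; exact X.basicOpen_le _ hx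
      have ht : t ∈ k.hU.fromSpec ⁻¹ᵁ X.basicOpen (k.p2 α) := hx
      rw [k.hU.fromSpec_preimage_basicOpen] at ht
      exact ⟨k.inX t, ht, by rw [← Scheme.Hom.comp_apply, ← hX]; rfl⟩
  · rw [hrange]
    ext x
    constructor
    · rintro ⟨s, hs, hsx⟩
      have hxU : x ∈ (k.V : Set Y) := hYr ▸ (⟨s, hsx⟩ : x ∈ b ⁻¹' Set.range u)
      obtain ⟨t, rfl⟩ : x ∈ Set.range k.hV.fromSpec := by rw [k.hV.range_fromSpec]; exact hxU
      have : s = k.inY t := u.isOpenEmbedding.injective (by
        rw [hsx, ← Scheme.Hom.comp_apply, hY]; rfl)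
      subst this
      show t ∈ k.hV.fromSpec ⁻¹ᵁ Y.basicOpen (k.p1 α)
      rw [k.hV.fromSpec_preimage_basicOpen]; exact hs
    · intro hx
      obtain ⟨t, rfl⟩ : x ∈ Set.range k.hV.fromSpec := by
        rw [k.hV.range_fromSpec]; exact Y.basicOpen_le _ hx
      have ht : t ∈ k.hV.fromSpec ⁻¹ᵁ Y.basicOpen (k.p1 α) := hx
      rw [k.hV.fromSpec_preimage_basicOpen] at ht
      exact ⟨k.inY t, ht, by rw [← Scheme.Hom.comp_apply, ← hY]; rfl⟩
  · rw [hrange]; rintro _ ⟨s, hs, rfl⟩; exact hα hs

theorem IsPinch.locallyOfFiniteType {S : Scheme.{u}} [IsLocallyNoetherian S] (h : IsPinch i j a b)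
    [IsFinite j] (r : P ⟶ S) [LocallyOfFiniteType (a ≫ r)] [LocallyOfFiniteType (b ≫ r)] :
    LocallyOfFiniteType r := by
  choose W hW hpW _ using fun p : P => exists_isAffineOpen_mem_and_subset (X := S) (x := r p)
    (U := ⊤) (TopologicalSpace.Opens.mem_top _)
  choose k u hu hp hX hY _ _ hle using fun p => h.exists_chart_le (r ⁻¹ᵁ W p) p (hpW p)
  let 𝒰 : P.OpenCover :=
    { I₀ := P
      X := fun p => (k p).spec
      f := u
      mem₀ := (Scheme.ofArrows_mem_precoverage_iff _).mpr ⟨fun p => ⟨p, hp p⟩, hu⟩ }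
  refine IsZariskiLocalAtSource.of_openCover (P := @LocallyOfFiniteType) 𝒰 fun p => ?_
  show LocallyOfFiniteType (u p ≫ r)
  haveI := hu p
  haveI : IsNoetherianRing Γ(S, W p) := IsLocallyNoetherian.component_noetherian ⟨W p, hW p⟩
  have hr : Set.range (u p ≫ r) ⊆ Set.range (hW p).fromSpec := by
    rw [(hW p).range_fromSpec]; rintro _ ⟨s, rfl⟩; exact hle p ⟨s, rfl⟩
  let g := IsOpenImmersion.lift (hW p).fromSpec (u p ≫ r) hr
  have hg : g ≫ (hW p).fromSpec = u p ≫ r := IsOpenImmersion.lift_fac _ _ hr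
  have h1 : LocallyOfFiniteType ((k p).inY ≫ g) := by
    haveI : LocallyOfFiniteType (((k p).inY ≫ g) ≫ (hW p).fromSpec) := by
      rw [Category.assoc, hg, ← Category.assoc, ← hY, Category.assoc]; infer_instance
    exact locallyOfFiniteType_of_comp _ (hW p).fromSpec
  have h2 : LocallyOfFiniteType ((k p).inX ≫ g) := by
    haveI : LocallyOfFiniteType (((k p).inX ≫ g) ≫ (hW p).fromSpec) := by
      rw [Category.assoc, hg, ← Category.assoc, ← hX, Category.assoc]; infer_instance
    exact locallyOfFiniteType_of_comp _ (hW p).fromSpec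
  have hj : IsFinite (sp (k p).r1) :=
    MorphismProperty.of_isPullback (k p).isPullback_Zj.flip inferInstance
  have hγ := Spec.map_preimage g
  rw [← hγ, ← Spec.map_comp, HasRingHomProperty.Spec_iff (P := @LocallyOfFiniteType)] at h1 h2
  rw [← hg]
  haveI : LocallyOfFiniteType g := by
    rw [← hγ, HasRingHomProperty.Spec_iff (P := @LocallyOfFiniteType)]
    exact (k p).isFib.finiteType ((IsFinite.SpecMap_iff _).mp hj) _ h1 h2
  infer_instance

end Groth.L20.Pinch
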