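import Groth.Agent.L20.Pinch.Pair

/-!
# The transition maps between charts are open immersions
-/

set_option linter.style.haveILetI false
set_option linter.unusedSectionVars false
set_option backward.isDefEq.respectTransparency.types false

universe u

open CategoryTheory Limits AlgebraicGeometry Opposite

namespace Groth.L20.Pinch.Pair

open Groth.L09.Patch (sp sp_comp)

variable {X Y Z : Scheme.{u}} {i : Z ⟶ X} {j : Z ⟶ Y} [IsClosedImmersion i]

theorem basic_eq (k : Pair i j) (α : k.R) :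
    i ⁻¹ᵁ X.basicOpen (k.p2 α) = j ⁻¹ᵁ Y.basicOpen (k.p1 α) := by
  have h := Scheme.basicOpen_appLE j (i ⁻¹ᵁ k.U) k.V k.eq.le (k.p1 α)
  have hle : j ⁻¹ᵁ Y.basicOpen (k.p1 α) ≤ i ⁻¹ᵁ k.U := by
    rw [k.eq]; exact j.preimage_mono (Y.basicOpen_le _)
  rw [inf_eq_right.mpr hle] at h
  rw [← h, Scheme.preimage_basicOpen]
  exact congrArg (Z.basicOpen (U := i ⁻¹ᵁ k.U)) (k.isFib.comm_apply α).symm

/-- The pair of basic opens of an element. -/
noncomputable def basic (k : Pair i j) (α : k.R) : Pair i j where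
  U := X.basicOpen (k.p2 α)
  V := Y.basicOpen (k.p1 α)
  hU := k.hU.basicOpen _
  hV := k.hV.basicOpen _
  eq := k.basic_eq α

theorem basic_le (k : Pair i j) (α : k.R) : k.basic α ≤ k :=
  ⟨X.basicOpen_le _, Y.basicOpen_le _⟩

theorem isOpenImmersion_of_basic {e k : Pair i j} (h : e ≤ k) (α : k.R)
    (hU : e.U = X.basicOpen (k.p2 α)) (hV : e.V = Y.basicOpen (k.p1 α)) :
    IsOpenImmersion (trans' h) ∧
      Set.range (trans' h) = (PrimeSpectrum.basicOpen α : Set (PrimeSpectrum k.R)) := by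
  have hW : i ⁻¹ᵁ e.U = Z.basicOpen (k.r2 (k.p2 α)) := by
    rw [hU, Scheme.preimage_basicOpen]
  have hW' : i ⁻¹ᵁ e.U = Z.basicOpen (k.r1 (k.p1 α)) := by
    rw [hW, k.isFib.comm_apply α]
  letI : Algebra k.R e.R := (res h).toAlgebra
  letI : Algebra Γ(Y, k.V) Γ(Y, e.V) := (Y.presheaf.map (homOfLE h.2).op).hom.toAlgebra
  letI : Algebra Γ(X, k.U) Γ(X, e.U) := (X.presheaf.map (homOfLE h.1).op).hom.toAlgebra
  letI : Algebra Γ(Z, i ⁻¹ᵁ k.U) Γ(Z, i ⁻¹ᵁ e.U) :=
    (Z.presheaf.map (homOfLE (i.preimage_mono h.1)).op).hom.toAlgebra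
  haveI : IsLocalization.Away (k.p1 α) Γ(Y, e.V) := k.hV.isLocalization_of_eq_basicOpen _ _ hV
  haveI : IsLocalization.Away (k.p2 α) Γ(X, e.U) := k.hU.isLocalization_of_eq_basicOpen _ _ hU
  haveI : IsLocalization.Away (k.r1 (k.p1 α)) Γ(Z, i ⁻¹ᵁ e.U) :=
    k.hW.isLocalization_of_eq_basicOpen _ _ hW'
  haveI : IsLocalization.Away α e.R := k.isFib.isLocalizationAway e.isFib α rfl rfl
    (RingHom.ext fun y => r1_res h y) (RingHom.ext fun x => r2_res h x)
  refine ⟨IsOpenImmersion.of_isLocalization (S := e.R) α, ?_⟩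
  exact PrimeSpectrum.localization_away_comap_range e.R α

theorem inY_apply_trans {d k : Pair i j} (h : d ≤ k) (q : Spec Γ(Y, d.V)) :
    ∃ q', k.inY q' = trans' h (d.inY q) ∧ k.hV.fromSpec q' = d.hV.fromSpec q := by
  refine ⟨Spec.map (Y.presheaf.map (homOfLE h.2).op) q, ?_, ?_⟩
  · rw [← Scheme.Hom.comp_apply, ← inY_trans, Scheme.Hom.comp_apply]
  · rw [← Scheme.Hom.comp_apply, IsAffineOpen.map_fromSpec k.hV d.hV]

theorem inX_apply_trans {d k : Pair i j} (h : d ≤ k) (q : Spec Γ(X, d.U)) :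
    ∃ q', k.inX q' = trans' h (d.inX q) ∧ k.hU.fromSpec q' = d.hU.fromSpec q := by
  refine ⟨Spec.map (X.presheaf.map (homOfLE h.1).op) q, ?_, ?_⟩
  · rw [← Scheme.Hom.comp_apply, ← inX_trans, Scheme.Hom.comp_apply]
  · rw [← Scheme.Hom.comp_apply, IsAffineOpen.map_fromSpec k.hU d.hU]

theorem basic_le_of_mem {k : Pair i j} {U' : X.Opens} {V' : Y.Opens} (O : k.spec.Opens)
    (hY : ∀ q, k.inY q ∈ O ↔ k.hV.fromSpec q ∈ V')
    (hX : ∀ q, k.inX q ∈ O ↔ k.hU.fromSpec q ∈ U')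
    (α : k.R) (hα : (PrimeSpectrum.basicOpen α : Set (PrimeSpectrum k.R)) ⊆ (O : Set k.spec)) :
    (k.basic α).U ≤ U' ∧ (k.basic α).V ≤ V' := by
  refine ⟨fun x hx => ?_, fun y hy => ?_⟩
  · obtain ⟨q, rfl⟩ : x ∈ Set.range k.hU.fromSpec := by
      rw [k.hU.range_fromSpec]; exact X.basicOpen_le _ hx
    refine (hX q).mp (hα ?_)
    have : q ∈ k.hU.fromSpec ⁻¹ᵁ X.basicOpen (k.p2 α) := hx
    rw [k.hU.fromSpec_preimage_basicOpen] at this
    exact this
  · obtain ⟨q, rfl⟩ : y ∈ Set.range k.hV.fromSpec := by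
      rw [k.hV.range_fromSpec]; exact Y.basicOpen_le _ hy
    refine (hY q).mp (hα ?_)
    have : q ∈ k.hV.fromSpec ⁻¹ᵁ Y.basicOpen (k.p1 α) := hy
    rw [k.hV.fromSpec_preimage_basicOpen] at this
    exact this

theorem trans'_comp {k l m : Pair i j} (h : k ≤ l) (h' : l ≤ m) (h'' : k ≤ m) :
    trans' h ≫ trans' h' = trans' h'' := by
  rw [trans', trans', trans', sp_comp, res_trans h h' h'']

theorem trans'_self (k : Pair i j) (h : k ≤ k) : trans' h = 𝟙 _ := by
  rw [trans', res_refl]; exact Groth.L09.Patch.sp_id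

theorem trans'_spec {d k : Pair i j} (h : d ≤ k) :
    IsOpenImmersion (trans' h) ∧ ∃ O : k.spec.Opens,
      Set.range (trans' h) = O ∧ (∀ q, k.inY q ∈ O ↔ k.hV.fromSpec q ∈ d.V) ∧
      (∀ q, k.inX q ∈ O ↔ k.hU.fromSpec q ∈ d.U) := by
  obtain ⟨O, hY, hX⟩ := k.exists_pred d.U d.V d.eq
  have hrange : ∀ z, trans' h z ∈ O := fun z => by
    rcases d.exists_in z with ⟨q, rfl⟩ | ⟨q, rfl⟩
    · obtain ⟨q', hq, hq'⟩ := inY_apply_trans h q
      rw [← hq, hY, hq']
      exact d.hV.range_fromSpec.le ⟨q, rfl⟩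
    · obtain ⟨q', hq, hq'⟩ := inX_apply_trans h q
      rw [← hq, hX, hq']
      exact d.hU.range_fromSpec.le ⟨q, rfl⟩
  have hloc : ∀ p ∈ O, ∃ (α : k.R), p ∈ (PrimeSpectrum.basicOpen α : Set (PrimeSpectrum k.R)) ∧
      ∃ (g : (k.basic α).spec ⟶ d.spec), IsOpenImmersion g ∧ IsOpenImmersion (g ≫ trans' h) ∧
        Set.range (g ≫ trans' h) = (PrimeSpectrum.basicOpen α : Set (PrimeSpectrum k.R)) ∧
        Set.range g = trans' h ⁻¹' (PrimeSpectrum.basicOpen α : Set (PrimeSpectrum k.R)) := by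
    intro p hp
    obtain ⟨_, ⟨α, rfl⟩, hpα, hα⟩ :=
      PrimeSpectrum.isTopologicalBasis_basic_opens.exists_subset_of_mem_open hp O.isOpen
    have hle : k.basic α ≤ d := basic_le_of_mem O hY hX α hα
    refine ⟨α, hpα, trans' hle, ?_⟩
    have hd := isOpenImmersion_of_basic hle (res h α)
      (by
        show X.basicOpen (k.p2 α) = X.basicOpen (X.presheaf.map (homOfLE h.1).op (k.p2 α))
        rw [Scheme.basicOpen_res]; exact (inf_eq_right.mpr hle.1).symm)
      (by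
        show Y.basicOpen (k.p1 α) = Y.basicOpen (Y.presheaf.map (homOfLE h.2).op (k.p1 α))
        rw [Scheme.basicOpen_res]; exact (inf_eq_right.mpr hle.2).symm)
    have hk := isOpenImmersion_of_basic (k.basic_le α) α rfl rfl
    rw [trans'_comp hle h (k.basic_le α)]
    exact ⟨hd.1, hk.1, hk.2, hd.2⟩
  choose α hα g hg hgh hr hrg using hloc
  have hinj : Function.Injective (trans' h) := fun a b hab => by
    obtain ⟨a', ha⟩ : a ∈ Set.range (g _ (hrange a)) := by rw [hrg]; exact hα _ (hrange a)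
    obtain ⟨b', hb⟩ : b ∈ Set.range (g _ (hrange a)) := by
      rw [hrg, Set.mem_preimage, ← hab]; exact hα _ (hrange a)
    haveI := hgh _ (hrange a)
    have := (g _ (hrange a) ≫ trans' h).isOpenEmbedding.injective (a₁ := a') (a₂ := b') (by
      rw [Scheme.Hom.comp_apply, Scheme.Hom.comp_apply, ha, hb, hab])
    rw [← ha, ← hb, this]
  have hopen : IsOpenMap (trans' h) := by
    intro S hS
    refine isOpen_iff_forall_mem_open.mpr ?_
    rintro _ ⟨a, ha, rfl⟩
    haveI := hgh _ (hrange a)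
    refine ⟨(g _ (hrange a) ≫ trans' h) '' ((g _ (hrange a)) ⁻¹' S), ?_,
      (g _ (hrange a) ≫ trans' h).isOpenEmbedding.isOpenMap _
        (hS.preimage (g _ (hrange a)).continuous), ?_⟩
    · rintro _ ⟨x, hx, rfl⟩
      exact ⟨g _ (hrange a) x, hx, rfl⟩
    · obtain ⟨a', ha'⟩ : a ∈ Set.range (g _ (hrange a)) := by rw [hrg]; exact hα _ (hrange a)
      exact ⟨a', by rw [Set.mem_preimage, ha']; exact ha, by rw [Scheme.Hom.comp_apply, ha']⟩
  haveI : ∀ x, IsIso ((trans' h).stalkMap x) := fun x => by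
    obtain ⟨a', ha'⟩ : x ∈ Set.range (g _ (hrange x)) := by rw [hrg]; exact hα _ (hrange x)
    haveI := hgh _ (hrange x)
    haveI := hg _ (hrange x)
    have hc : IsIso ((g _ (hrange x) ≫ trans' h).stalkMap a') := inferInstance
    rw [Scheme.Hom.stalkMap_comp] at hc
    rw [← ha']
    exact @IsIso.of_isIso_comp_right _ _ _ _ _ ((trans' h).stalkMap (g _ (hrange x) a'))
      ((g _ (hrange x)).stalkMap a') inferInstance hc
  refine ⟨IsOpenImmersion.of_isIso_stalkMap _ (.of_continuous_injective_isOpenMap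
    (trans' h).continuous hinj hopen), O, Set.Subset.antisymm ?_ fun p hp => ?_, hY, hX⟩
  · rintro _ ⟨z, rfl⟩; exact hrange z
  · obtain ⟨y, hy⟩ : p ∈ Set.range (g p hp ≫ trans' h) := by rw [hr]; exact hα p hp
    exact ⟨g p hp y, hy⟩

instance {d k : Pair i j} (h : d ≤ k) : IsOpenImmersion (trans' h) := (trans'_spec h).1

theorem exists_lower {k l m : Pair i j} (hk : k ≤ m) (hl : l ≤ m) (a : k.spec) (b : l.spec)
    (hab : trans' hk a = trans' hl b) :
    ∃ (d : Pair i j) (h : d ≤ k) (h' : d ≤ l) (x : d.spec), trans' h x = a ∧ trans' h' x = b := by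
  obtain ⟨-, O, hO, hOY, hOX⟩ := trans'_spec hk
  obtain ⟨-, O', hO', hOY', hOX'⟩ := trans'_spec hl
  have hp : trans' hk a ∈ O ⊓ O' := ⟨hO.le ⟨a, rfl⟩, hO'.le ⟨b, hab.symm⟩⟩
  obtain ⟨_, ⟨α, rfl⟩, hpα, hα⟩ :=
    PrimeSpectrum.isTopologicalBasis_basic_opens.exists_subset_of_mem_open hp (O ⊓ O').isOpen
  have h : m.basic α ≤ k := basic_le_of_mem O hOY hOX α (hα.trans Set.inter_subset_left)
  have h' : m.basic α ≤ l := basic_le_of_mem O' hOY' hOX' α (hα.trans Set.inter_subset_right)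
  obtain ⟨x, hx⟩ : trans' hk a ∈ Set.range (trans' (m.basic_le α)) := by
    rw [(isOpenImmersion_of_basic (m.basic_le α) α rfl rfl).2]; exact hpα
  refine ⟨_, h, h', x, (trans' hk).isOpenEmbedding.injective ?_,
    (trans' hl).isOpenEmbedding.injective ?_⟩
  · rw [← Scheme.Hom.comp_apply, trans'_comp h hk (m.basic_le α), hx]
  · rw [← Scheme.Hom.comp_apply, trans'_comp h' hl (m.basic_le α), hx, hab]

variable (i j) in
/-- The diagram of charts. -/
noncomputable def diagram : Pair i j ⥤ Scheme.{u} where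
  obj k := k.spec
  map f := trans' f.le
  map_id k := trans'_self k _
  map_comp f g := (trans'_comp f.le g.le (f ≫ g).le).symm

instance {k l : Pair i j} (f : k ⟶ l) : IsOpenImmersion ((diagram i j).map f) :=
  (trans'_spec f.le).1

instance : (diagram i j ⋙ Scheme.forget).IsLocallyDirected where
  cond {k l m} fi fj xi xj h := by
    obtain ⟨d, hd, hd', x, h1, h2⟩ := exists_lower fi.le fj.le xi xj h
    exact ⟨d, homOfLE hd, homOfLE hd', x, h1, h2⟩

end Groth.L20.Pinch.Pair
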